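import Cfsg.Agent.Lib.Blocks.RankOneFive.Weights
import Cfsg.Agent.Lib.Blocks.CardBound
import Cfsg.Agent.Lib.Blocks.Watanabe.Focal
import Cfsg.Agent.Lib.Blocks.Watanabe.Transport
import Cfsg.Agent.S4733

/-!
# A block of rank one with five characters has no abelian defect group of order eight

The stabilizer of the maximal pair is transitive on the nontrivial elements of the defect group, so
all the local blocks have rank four; but the block dominated by one of them has defect two.
-/

set_option autoImplicit false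
set_option linter.unusedSectionVars false
set_option linter.style.haveILetI false

namespace CfsgLib.Blocks.RankOneFive

open Cfsg CfsgLib.Blocks.FreeQuot CfsgLib.Blocks.Watanabe
open scoped ComplexConjugate CfsgLib.Char

/-- A block of defect three with a central involution has rank at most three. -/
theorem blockRank_centralizer_le {p : ℕ} {M : Ideal AlgInt} {G : Type*} [Group G] [Fintype G]
    (hM : IsPModular p M) (hp2 : p = 2) {u : G} (hu : orderOf u = p) :
    ∀ (K : Subgroup G) [Fintype K] (_ : K = Subgroup.centralizer ({u} : Set G))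
      (b : Set (IrrCharacter K)), IsPBlock M b → blockDefect p b = 3 → blockRank p b ≤ 3 := by
  intro K _ hK b hb hbd
  subst hK
  have : Fact p.Prime := ⟨hM.1⟩
  haveI : Fintype ((Subgroup.centralizer ({u} : Set G)) ⧸ uSub u) := Fintype.ofFinite _
  set f : (Subgroup.centralizer ({u} : Set G)) →* (Subgroup.centralizer ({u} : Set G)) ⧸ uSub u :=
    QuotientGroup.mk' (uSub u)
  have hf : Function.Surjective f := QuotientGroup.mk'_surjective _
  have hker : IsPGroup p f.ker := by
    rw [QuotientGroup.ker_mk']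
    exact IsPGroup.of_card (n := 1) (by rw [card_uSub, hu, pow_one])
  have hc : ∀ k ∈ f.ker, ∀ g : (Subgroup.centralizer ({u} : Set G)), Commute k g := fun k hk g =>
    uSub_central u k (by rwa [QuotientGroup.ker_mk'] at hk) g
  have hb' := CentralQuot.isPBlock_pre f hf hM hker hc hb
  have hd' : blockDefect p (CentralQuot.pre f hf b) = 2 := by
    have h := CentralQuot.blockDefect_pre f hf hM hker hc hb
    rw [QuotientGroup.ker_mk', card_uSub, hu, hM.1.factorization_self, hbd] at h
    omega
  have h4 := (card_block_le hM 2 _ _ hb' hd').1 le_rfl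
  obtain ⟨h1, -, h3⟩ := Cfsg.Agent.S4733.result p M hM _ hb'
  have h0 : Nat.card (CentralQuot.pre f hf b) ≠ blockRank p (CentralQuot.pre f hf b) := fun h => by
    have := h3.mpr h
    omega
  rw [CentralQuot.blockRank_pre f hf hM hker hc hb]
  have h4' := h4.trans (le_of_eq (show p ^ 2 = 4 by rw [hp2]; norm_num))
  omega

variable {p : ℕ} {M : Ideal AlgInt} [M.IsPrime] {G : Type*} [Group G] [Fintype G] {P : Subgroup G}
  {c : Set (IrrCharacter (Subgroup.centralizer (P : Set G)))} {B : Set (IrrCharacter G)}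

/-- The local blocks have full defect. -/
theorem blockDefect_bk (hM : IsPModular p M) (hmax : IsMaximalBrauerPair p M B P c)
    (hab : ∀ x ∈ P, ∀ y ∈ P, x * y = y * x) {u : G} (hu : u ∈ P) :
    p ^ blockDefect p (bk p M P c u) = Nat.card P := by
  obtain ⟨g, hg, hcard⟩ := exists_conj_centralizer_eq hM hmax (bk_subpair hM hmax.1.1 hu)
  rw [← hcard]
  congr 1
  rw [inf_eq_left.mpr]
  exact fun a ha b hb => hab b (hg.map_le hb) a ha

/-- **The stabilizer is transitive on the nontrivial elements.** -/
theorem exists_transport {χ₁ : IrrCharacter G} (h : Shape p M B χ₁)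
    (hmax : IsMaximalBrauerPair p M B P c) (hab : ∀ x ∈ P, ∀ y ∈ P, x * y = y * x)
    (hcard : Nat.card P = p ^ 3) {u z : G} (hu : u ∈ P) (hu1 : u ≠ 1) (hz : z ∈ P) (hz1 : z ≠ 1) :
    ∃ y ∈ blockT P c, y * u * y⁻¹ = z := by
  classical
  have hM := h.modular
  have hel : ∀ {v : G}, v ∈ P → ∃ k : ℕ, orderOf v = p ^ k := fun hv =>
    exists_pow_orderOf_mem hM hmax.1.1.1 ⟨_, hv⟩
  have hne : ∀ {v : G}, v ≠ 1 → ∀ g : G, g * v * g⁻¹ ≠ 1 := fun hv g e => hv (conj_eq_one_iff.mp e)
  have hfull : ∀ {v : G}, v ∈ P → IsInducedBlock M (cz v) (bk p M P c v) B ∧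
      blockDefect p (bk p M P c v) = 3 := fun hv =>
    ⟨bk_induced hM hmax hv, Nat.pow_right_injective hM.1.two_le
      ((blockDefect_bk hM hmax hab hv).trans hcard)⟩
  have hclass : ∀ {v : G}, v ∈ P → v ≠ 1 →
      ∀ w ∈ Finset.univ.image (fun g => g * v * g⁻¹), (∃ k : ℕ, orderOf w = p ^ k) ∧ w ≠ 1 := by
    intro v hv hv1 w hw
    obtain ⟨g, -, rfl⟩ := Finset.mem_image.mp hw
    exact ⟨isPElem_conj (hel hv) g, hne hv1 g⟩
  by_cases hconj : IsConj u z
  · obtain ⟨g, rfl⟩ := isConj_iff.mp hconj
    by_cases heq : conjSet g (cz u) (cz (g * u * g⁻¹)) (bk p M P c u) = bk p M P c (g * u * g⁻¹)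
    · exact exists_blockT_of_conjSet hM hmax hab hu hz rfl heq
    exfalso
    have hp := isBrauerPairOf_conjPair g (a := ⟨Subgroup.zpowers u, bk p M P c u⟩)
      (bk_pairOf hM hmax hu)
    rw [conjPair_zpowers rfl] at hp
    have h1 := card_mul_le_class h (hel hz)
      {conjSet g (cz u) (cz (g * u * g⁻¹)) (bk p M P c u), bk p M P c (g * u * g⁻¹)} (by
        intro b hb
        rcases Finset.mem_insert.mp hb with rfl | hb
        · exact ⟨(isBrauerPairOf_iff_induced hM (hel hz) hp.1.2).mp hp,
            (blockDefect_conjSet (cz_conj_iff g u) _).trans (hfull hu).2⟩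
        · rw [Finset.mem_singleton] at hb
          exact hb ▸ hfull hz)
    have h2 := sum_weight_lt h _ (hclass hz (hne hu1 g))
    rw [Finset.card_pair heq] at h1
    push_cast at h1
    linarith
  · exfalso
    have h1 : ∀ {v : G}, v ∈ P → (Nat.card G : ℝ) ≤
        ∑ w ∈ Finset.univ.image (fun g => g * v * g⁻¹), weight p (χ₁ : G → ℂ) w (cz w) := fun {v} hv => by
      have := card_mul_le_class h (hel hv) {bk p M P c v} fun b hb => by
        rw [Finset.mem_singleton] at hb
        exact hb ▸ hfull hv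
      simpa using this
    have hdisj : Disjoint (Finset.univ.image fun g => g * u * g⁻¹)
        (Finset.univ.image fun g => g * z * g⁻¹) := by
      rw [Finset.disjoint_left]
      intro w hw hw'
      obtain ⟨g, -, rfl⟩ := Finset.mem_image.mp hw
      obtain ⟨g', -, e⟩ := Finset.mem_image.mp hw'
      exact hconj ((isConj_iff.mpr ⟨g, rfl⟩).trans (isConj_iff.mpr ⟨g', e⟩).symm)
    have h2 := sum_weight_lt h ((Finset.univ.image fun g => g * u * g⁻¹) ∪
      Finset.univ.image fun g => g * z * g⁻¹) fun w hw => by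
        rcases Finset.mem_union.mp hw with hw | hw
        · exact hclass hu hu1 w hw
        · exact hclass hz hz1 w hw
    rw [Finset.sum_union hdisj] at h2
    linarith [h1 hu, h1 hz]

/-- **The defect group is not abelian.** -/
theorem false_of_abelian {χ₁ : IrrCharacter G} (h : Shape p M B χ₁) (hl : blockRank p B = 1)
    (hmax : IsMaximalBrauerPair p M B P c) (hcard : Nat.card P = 8)
    (hab : ∀ x ∈ P, ∀ y ∈ P, x * y = y * x) : False := by
  classical
  have hM := h.modular
  have : Fact p.Prime := ⟨hM.1⟩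
  have hcard' : Nat.card P = p ^ 3 := by rw [hcard, h.two]; norm_num
  have := Fintype.ofFinite P
  obtain ⟨v, hv⟩ := exists_prime_orderOf_dvd_card' p (G := P) (by rw [hcard']; exact dvd_pow_self p (by norm_num))
  have hvord : orderOf (v : G) = p := by rw [Subgroup.orderOf_coe, hv]
  have hv1 : (v : G) ≠ 1 := fun e => hM.1.ne_one (hvord.symm.trans (orderOf_eq_one_iff.mpr e))
  set T := blockT P c with hTdef
  have hbkd : blockDefect p (bk p M P c (v : G)) = 3 := Nat.pow_right_injective hM.1.two_le
    ((blockDefect_bk hM hmax hab v.2).trans hcard')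
  have hl3 : blockRank p (bk p M P c (v : G)) ≤ 3 := by
    let := Fintype.ofFinite (cz (v : G))
    exact blockRank_centralizer_le hM h.two hvord (cz (v : G)) (cz_eq _) _
      (bk_isBlock hM hmax.1.1 v.2) hbkd
  -- the elements of the stabilizer carrying `v` to `z`
  have hmove : ∀ z : ↥P, z ≠ 1 →
      Nat.card {t : T // (t : G) * v * (t : G)⁻¹ = z} = stabCount T (v : G) ∧
      stabCount T (z : G) = stabCount T (v : G) ∧
      blockRank p (bk p M P c (z : G)) = blockRank p (bk p M P c (v : G)) := fun z hz => by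
    obtain ⟨y, hy, hyz⟩ := exists_transport h hmax hab hcard' v.2 hv1 z.2
      fun e => hz (Subtype.ext e)
    refine ⟨Nat.card_congr (Equiv.subtypeEquiv (Equiv.mulLeft (⟨y, hy⟩ : T)⁻¹) fun t => ?_),
      Nat.card_congr (Equiv.subtypeEquiv ((Equiv.mulLeft (⟨y, hy⟩ : T)⁻¹).trans
        (Equiv.mulRight (⟨y, hy⟩ : T))) fun t => ?_), ?_⟩
    · show (t : G) * v * (t : G)⁻¹ = z ↔ y⁻¹ * (t : G) * v * (y⁻¹ * (t : G))⁻¹ = v
      rw [← hyz]
      constructor
      · intro e
        calc y⁻¹ * (t : G) * v * (y⁻¹ * (t : G))⁻¹ = y⁻¹ * ((t : G) * v * (t : G)⁻¹) * y := by group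
          _ = v := by rw [e]; group
      · intro e
        calc (t : G) * v * (t : G)⁻¹ = y * (y⁻¹ * (t : G) * v * (y⁻¹ * (t : G))⁻¹) * y⁻¹ := by group
          _ = _ := by rw [e]
    · show (t : G) * z * (t : G)⁻¹ = z ↔ y⁻¹ * (t : G) * y * v * (y⁻¹ * (t : G) * y)⁻¹ = v
      rw [← hyz]
      constructor
      · intro e
        calc y⁻¹ * (t : G) * y * v * (y⁻¹ * (t : G) * y)⁻¹
            = y⁻¹ * ((t : G) * (y * v * y⁻¹) * (t : G)⁻¹) * y := by group
          _ = v := by rw [e]; group
      · intro e
        calc (t : G) * (y * v * y⁻¹) * (t : G)⁻¹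
            = y * (y⁻¹ * (t : G) * y * v * (y⁻¹ * (t : G) * y)⁻¹) * y⁻¹ := by group
          _ = _ := by rw [e]
    · rw [← hyz, ← conjSet_bk_blockT hM hmax.1.1 hy v.2, conjSet_eq_image (cz_conj_iff y _)]
      exact RankSum.blockRank_image_irrEquiv (conjIso (cz_conj_iff y _)) _
  have horbit : (Finset.univ.erase (1 : ↥P)).card * stabCount T (v : G) = Nat.card T := by
    have := Fintype.ofFinite T
    let μ : T → ↥P := fun t => ⟨(t : G) * v * (t : G)⁻¹,
      (Subgroup.mem_normalizer_iff.mp (blockT_le_normalizer t.2) _).mp v.2⟩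
    have hf := Finset.card_eq_sum_card_fiberwise (f := μ) (s := (Finset.univ : Finset T))
      (t := Finset.univ.erase (1 : ↥P))
      fun t _ => Finset.mem_erase.mpr ⟨fun e => hv1 (conj_eq_one_iff.mp
        (congrArg Subtype.val e)), Finset.mem_univ _⟩
    rw [Finset.card_univ, ← Nat.card_eq_fintype_card] at hf
    rw [hf, Finset.sum_congr rfl (g := fun _ => stabCount T (v : G)) fun z hz => ?_,
      Finset.sum_const, smul_eq_mul]
    rw [← Fintype.card_subtype, ← Nat.card_eq_fintype_card,
      ← (hmove z (Finset.mem_erase.mp hz).1).1]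
    exact Nat.card_congr (Equiv.subtypeEquivRight fun t => Subtype.ext_iff)
  have hsum := sum_term hM hmax hab
  rw [h.card, ← Finset.add_sum_erase _ _ (Finset.mem_univ (1 : ↥P)),
    Finset.sum_congr rfl (g := fun _ => stabCount T (v : G) * blockRank p (bk p M P c (v : G)))
      fun z hz => by
        obtain ⟨-, h2, h3⟩ := hmove z (Finset.mem_erase.mp hz).1
        rw [term, h2, h3],
    Finset.sum_const, smul_eq_mul, ← mul_assoc, horbit, term, Subgroup.coe_one,
    blockRank_bk_one hM hmax, hl, mul_one,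
    show stabCount T (1 : G) = Nat.card T from
      Nat.card_congr (Equiv.subtypeUnivEquiv fun t => by group)] at hsum
  rw [← hTdef] at hsum
  have hT : 0 < Nat.card T := Nat.card_pos
  have hle := Nat.mul_le_mul_left (Nat.card T) hl3
  omega

end CfsgLib.Blocks.RankOneFive
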