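import Cfsg.Agent.Lib.Blocks.RankOneFive.LocalTwo

/-!
# A local symmetric algebra with a centre of dimension at most five has dimension at most eight

The algebra is the corner of a primitive idempotent; its radical is fed to the bound of `LocalData`.
-/

set_option autoImplicit false
set_option linter.unusedSectionVars false

namespace CfsgLib.Blocks.RankOneFive

open CfsgLib.Corner CfsgLib.Blocks.RankOneSmall

variable {K : Type*} [Field K] [IsAlgClosed K] {A : Type*} [Ring A] [Algebra K A]
  [FiniteDimensional K A] {e : A}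

/-- **A local symmetric algebra with centre of dimension at most five has dimension at most eight.** -/
theorem finrank_cornerSub_le (hi : IsPrim e) (τ : A →ₗ[K] K) (hτ : ∀ a b, τ (a * b) = τ (b * a))
    (hnd : ∀ x, (∀ y, τ (x * y) = 0) → x = 0)
    (hZ : Module.finrank K (cornerCenter K e) ≤ 5) :
    Module.finrank K (cornerSub K e) ≤ 8 := by
  classical
  set R := cornerSub K e with hR
  set J := cornerRad K hi with hJ
  set C := Submodule.span K {d | ∃ u ∈ J, ∃ v ∈ J, u * v - v * u = d} with hC
  have heR : e ∈ R := ⟨hi.idem.eq, hi.idem.eq⟩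
  have hJR : J ≤ R := fun x hx => hx.1
  have hJ1 := fun {n : ℕ} (hn : 1 ≤ n) => pow_le_rad (K := K) hi hn
  -- it suffices that `C = ⊥`
  have hcomm : ∀ a ∈ R, ∀ b ∈ R, a * b - b * a ∈ C := by
    intro a ha b hb
    refine Submodule.subset_span ⟨_, sub_phi_mem hi ha, _, sub_phi_mem hi hb, ?_⟩
    simp only [sub_mul, mul_sub, smul_mul_assoc, mul_smul_comm, ha.1, ha.2, hb.1, hb.2,
      hi.idem.eq]
    module
  have hCJ2 : C ≤ J * J := by
    rw [hC, Submodule.span_le]
    rintro _ ⟨u, hu, v, hv, rfl⟩
    exact sub_mem (Submodule.mul_mem_mul hu hv) (Submodule.mul_mem_mul hv hu)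
  -- the trace on the corner
  have hτR : ∀ z ∈ R, ∀ y, τ (z * y) = τ (z * (e * y * e)) := fun z hz y => by
    calc τ (z * y) = τ (e * (z * e * y)) := by rw [← mul_assoc, ← mul_assoc, hz.1, hz.2]
      _ = τ (z * e * y * e) := hτ _ _
      _ = τ (z * (e * y * e)) := by simp only [mul_assoc]
  have hmid : ∀ y, e * y * e ∈ R := fun y =>
    ⟨by simp only [← mul_assoc, hi.idem.eq], by simp only [mul_assoc, hi.idem.eq]⟩
  -- the socle
  let S : Submodule K A :=
    { carrier := {a | a ∈ R ∧ ∀ j ∈ J, τ (j * a) = 0}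
      zero_mem' := ⟨zero_mem _, fun j _ => by rw [mul_zero, map_zero]⟩
      add_mem' := fun {a b} ha hb =>
        ⟨add_mem ha.1 hb.1, fun j hj => by rw [mul_add, map_add, ha.2 j hj, hb.2 j hj, add_zero]⟩
      smul_mem' := fun c a ha =>
        ⟨Submodule.smul_mem _ c ha.1, fun j hj => by rw [mul_smul_comm, map_smul, ha.2 j hj, smul_zero]⟩ }
  have hinj : ∀ a ∈ S, τ a = 0 → a = 0 := by
    rintro a ⟨haR, ha⟩ h0
    refine hnd a fun y => ?_
    rw [hτR a haR, hτ]
    set r := e * y * e
    rw [show r * a = phi K e r • a + (r - phi K e r • e) * a by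
      rw [sub_mul, smul_mul_assoc, haR.1]; abel, map_add, map_smul, h0,
      ha _ (sub_phi_mem hi (hmid y)), smul_zero, add_zero]
  have hS1 : Module.finrank K S ≤ 1 := by
    refine (LinearMap.finrank_le_finrank_of_injective (f := τ.comp S.subtype) ?_).trans
      (Module.finrank_self K).le
    exact (injective_iff_map_eq_zero _).mpr fun a ha => Subtype.ext (hinj a.1 a.2 ha)
  have hτC : ∀ c ∈ C, τ c = 0 := fun c hc => by
    have : C ≤ LinearMap.ker τ := by
      rw [hC, Submodule.span_le]
      rintro _ ⟨u, -, v, -, rfl⟩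
      simp [hτ u v]
    exact this hc
  have hCS : C ⊓ S = ⊥ := eq_bot_iff.mpr fun a ha => hinj a ha.2 (hτC a ha.1)
  have hsoc : ∀ d n, 1 ≤ n → J ^ (n + d) = ⊥ → J ^ n ≠ ⊥ → S ≤ J ^ n ∧ S ≠ ⊥ := by
    intro d
    induction d with
    | zero => exact fun n _ h h' => absurd h h'
    | succ d ih =>
      intro n hn h h'
      by_cases h1 : J ^ (n + 1) = ⊥
      · obtain ⟨s, hs, hs0⟩ := Submodule.exists_mem_ne_zero_of_ne_bot h'
        have hsS : s ∈ S := ⟨hJR (hJ1 hn hs), fun j hj => by
          have hm : j * s ∈ J ^ (n + 1) := by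
            rw [pow_succ']; exact Submodule.mul_mem_mul hj hs
          rw [h1, Submodule.mem_bot] at hm
          rw [hm, map_zero]⟩
        have heq : Submodule.span K {s} = S := Submodule.eq_of_le_of_finrank_le
          ((Submodule.span_singleton_le_iff_mem _ _).mpr hsS)
          (by rw [finrank_span_singleton hs0]; exact hS1)
        exact ⟨heq ▸ (Submodule.span_singleton_le_iff_mem _ _).mpr hs,
          fun hb => hs0 ((Submodule.mem_bot K).mp (hb ▸ hsS))⟩
      · obtain ⟨h2, h3⟩ := ih (n + 1) (Nat.le_add_left 1 n)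
          (by rwa [show n + 1 + d = n + (d + 1) by omega]) h1
        exact ⟨h2.trans (pow_succ_le hi hn), h3⟩
  obtain ⟨N, hN⟩ := exists_pow_eq_bot (K := K) hi
  have hsoc' : ∀ n, 1 ≤ n → J ^ n ≠ ⊥ → S ≤ J ^ n ∧ S ≠ ⊥ := fun n hn => hsoc (N + 1) n hn
    (by rw [pow_add, hN, Submodule.mul_bot])
  -- dimensions
  have hdim : Module.finrank K R ≤ Module.finrank K C + 5 := by
    let Φ : R →ₗ[K] Module.Dual K C :=
      { toFun := fun r => τ.comp ((LinearMap.mulLeft K (r : A)).comp C.subtype)
        map_add' := fun a b => by ext y; simp [add_mul]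
        map_smul' := fun c a => by ext y; simp }
    have hker : Module.finrank K (LinearMap.ker Φ) ≤ 5 := by
      refine le_trans ?_ hZ
      let ι : LinearMap.ker Φ →ₗ[K] cornerCenter K e :=
        LinearMap.codRestrict _ (R.subtype.comp (LinearMap.ker Φ).subtype) fun r => by
          obtain ⟨⟨r, hr⟩, hr0⟩ := r
          refine ⟨hr, fun b hb => ?_⟩
          show r * b = b * r
          refine sub_eq_zero.mp (hnd _ fun y => ?_)
          rw [hτR _ (sub_mem ⟨by rw [← mul_assoc, hr.1], by rw [mul_assoc, hb.2]⟩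
            ⟨by rw [← mul_assoc, hb.1], by rw [mul_assoc, hr.2]⟩)]
          have ha := hmid y
          generalize e * y * e = a at ha ⊢
          have h := LinearMap.congr_fun hr0 ⟨b * a - a * b, hcomm b hb a ha⟩
          change τ (r * (b * a - a * b)) = 0 at h
          rw [mul_sub, map_sub, sub_eq_zero] at h
          show τ ((r * b - b * r) * a) = 0
          rw [sub_mul, map_sub, sub_eq_zero, mul_assoc, h, mul_assoc b, hτ b, mul_assoc]
      refine LinearMap.finrank_le_finrank_of_injective (f := ι) fun a b h => ?_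
      exact Subtype.ext (Subtype.ext (congrArg (fun z : cornerCenter K e => (z : A)) h))
    have h1 := Φ.finrank_range_add_finrank_ker
    have h2 := (Submodule.finrank_le (LinearMap.range Φ)).trans Subspace.dual_finrank_eq.le
    omega
  have hJlt : Module.finrank K J + 1 ≤ Module.finrank K R :=
    Submodule.finrank_lt_finrank_of_lt (lt_of_le_of_ne hJR fun h => by
      have h' : e ∈ J := h ▸ heR
      exact one_ne_zero ((hi.phi_self (K := K)).symm.trans h'.2))
  have hRJ : Module.finrank K R ≤ Module.finrank K J + 1 := by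
    have hle : R ≤ Submodule.span K {e} ⊔ J := fun r hr => Submodule.mem_sup.mpr
      ⟨_, Submodule.smul_mem _ (phi K e r) (Submodule.mem_span_singleton_self e), _,
        sub_phi_mem hi hr, add_sub_cancel _ _⟩
    refine (Submodule.finrank_mono hle).trans
      ((Submodule.finrank_add_le_finrank_add_finrank _ _).trans ?_)
    rw [finrank_span_singleton (fun h => one_ne_zero (α := K) ?_)]
    · omega
    · have h2 := hi.phi_smul (K := K) 0 (0 : A)
      rw [zero_smul, zero_mul] at h2
      exact ((hi.phi_self (K := K)).symm.trans (congrArg (phi K e) h)).trans h2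
  change Module.finrank K R ≤ 8
  by_cases hC0 : C = ⊥
  · rw [hC0, finrank_bot] at hdim
    omega
  have hJbot : J ≠ ⊥ := fun h => hC0 (eq_bot_iff.mpr (hCJ2.trans (by rw [h, Submodule.mul_bot])))
  obtain ⟨L, hL, hmin⟩ : ∃ L, J ^ (L + 1) = ⊥ ∧ ∀ l < L, J ^ (l + 1) ≠ ⊥ :=
    have hex : ∃ l, J ^ (l + 1) = ⊥ := ⟨N, hN⟩
    ⟨Nat.find hex, Nat.find_spec hex, fun l hl => Nat.find_min hex hl⟩
  have hL1 : 1 ≤ L := Nat.one_le_iff_ne_zero.mpr fun h => hJbot (by subst h; simpa using hL)
  have hLne : J ^ L ≠ ⊥ := by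
    have h := hmin (L - 1) (by omega)
    rwa [Nat.sub_add_cancel hL1] at h
  obtain ⟨hSL, hS0⟩ := hsoc' L hL1 hLne
  have hLS : J ^ L ≤ S := fun s hs => ⟨hJR (hJ1 hL1 hs), fun j hj => by
    have hm : j * s ∈ J ^ (L + 1) := by rw [pow_succ']; exact Submodule.mul_mem_mul hj hs
    rw [hL, Submodule.mem_bot] at hm
    rw [hm, map_zero]⟩
  have hcomm1 : commPow J 1 = C := by
    rw [hC, commPow]
    simp only [pow_one]
  let D : LocalData K A :=
    { τ := τ
      sym := hτ
      J := J
      L := L
      vanish := hL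
      mul_le := rad_mul_le hi
      top_rank := le_antisymm ((Submodule.finrank_mono hLS).trans hS1)
        ((Submodule.one_le_finrank_iff.mpr hS0).trans (Submodule.finrank_mono hSL))
      top_inj := fun s hs => hinj s (hLS hs)
      socle := fun a ha h => hSL ⟨hJR ha, h⟩
      rank_le := by rw [hcomm1]; omega
      one_gen := fun x hx h => by
        rw [hcomm1, hC, Submodule.span_eq_bot]
        rintro _ ⟨u, hu, v, hv, rfl⟩
        rw [pow_two] at h
        rw [comm_of_generator hi hx h u hu v hv, sub_self] }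
  have h7 : Module.finrank K J ≤ 7 := D.finrank_le_seven
  omega

end CfsgLib.Blocks.RankOneFive
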