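import Cfsg.Agent.Lib.Blocks.RankOneSmall.Degrees
import Cfsg.Agent.Lib.Blocks.RankOneFive.Corner

/-!
# A block of rank one with five characters: the degrees and the order of the defect group

The degrees are multiples of one number by `1, 1, 1, 1, 1` or by `1, 1, 1, 1, 2`, and the order of
the defect group is the sum of the squares of the multipliers.
-/

set_option autoImplicit false
set_option linter.unusedSectionVars false
set_option linter.style.haveILetI false

namespace CfsgLib.Blocks.RankOneFive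

open Cfsg CfsgLib.GrpRing CfsgLib.Blocks.Decomp
open CyclicDefect (eB MatUnits)
open scoped ComplexConjugate CfsgLib.Char

/-- Five positive numbers with squares adding up to at most eight. -/
theorem five_squares {ι : Type*} (s : Finset ι) (e : ι → ℕ) (hs : s.card = 5)
    (he : ∀ i ∈ s, 1 ≤ e i) (hsum : ∑ i ∈ s, e i ^ 2 ≤ 8) :
    (∀ i ∈ s, e i = 1) ∨
      (∑ i ∈ s, e i ^ 2 = 8 ∧ ∃ j ∈ s, e j = 2 ∧ ∀ i ∈ s, i ≠ j → e i = 1) := by
  classical
  by_cases hall : ∀ i ∈ s, e i = 1
  · exact Or.inl hall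
  right
  push Not at hall
  obtain ⟨j, hj, hj1⟩ := hall
  have h2 : 2 ≤ e j := by
    have := he j hj
    omega
  have hcard : (s.erase j).card = 4 := by rw [Finset.card_erase_of_mem hj, hs]
  have hsplit := Finset.add_sum_erase s (fun i => e i ^ 2) hj
  have h4 : 4 ≤ ∑ i ∈ s.erase j, e i ^ 2 := by
    refine le_trans (le_of_eq ?_) (Finset.sum_le_sum (f := fun _ => 1) fun i hi =>
      Nat.one_le_pow _ _ (he i (Finset.mem_of_mem_erase hi)))
    simp [hcard]
  have hj2 : e j = 2 := by
    by_contra hne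
    have h9 : 3 ^ 2 ≤ e j ^ 2 := Nat.pow_le_pow_left (by omega) 2
    norm_num at h9
    omega
  have h4' : e j ^ 2 = 4 := by rw [hj2]; norm_num
  refine ⟨by omega, j, hj, hj2, fun i hi hij => ?_⟩
  by_contra hne
  have hmem : i ∈ s.erase j := Finset.mem_erase.mpr ⟨hij, hi⟩
  have hsplit' := Finset.add_sum_erase (s.erase j) (fun i => e i ^ 2) hmem
  have h3 : 3 ≤ ∑ k ∈ (s.erase j).erase i, e k ^ 2 := by
    refine le_trans (le_of_eq ?_) (Finset.sum_le_sum (f := fun _ => 1) fun k hk =>
      Nat.one_le_pow _ _ (he k (Finset.mem_of_mem_erase (Finset.mem_of_mem_erase hk))))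
    simp [Finset.card_erase_of_mem hmem, hcard]
  have h9 : 2 ^ 2 ≤ e i ^ 2 := Nat.pow_le_pow_left (by have := he i hi; omega) 2
  norm_num at h9
  omega

variable {p : ℕ} {M : Ideal AlgInt} [M.IsPrime] {G : Type*} [Group G] [Fintype G]
  {B : Set (IrrCharacter G)}

open Classical in
/-- The squares of the decomposition numbers add up to at most eight. -/
theorem sum_sq_decN_le (hM : IsPModular p M) (hB : IsPBlock M B) {P : Subgroup G}
    (hP : IsDefectGroup p M B P) (hl : blockRank p B = 1) (hk : Nat.card B = 5)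
    (S : Simples M G) {b : Fin S.r} (hb : S.InB B b)
    (hdeg : ∀ χ ∈ B, charDegree (χ : G → ℂ) = S.m b * S.decN χ b) :
    ∑ χ : IrrCharacter G with χ ∈ B, S.decN χ b ^ 2 ≤ 8 := by
  have hne : eB M B ≠ 0 := fun h => CyclicDefect.trunc_eB_ne_zero hM hP (by rw [h, map_zero])
  obtain ⟨U⟩ := CyclicDefect.nonempty_matUnits hM hB hl hne
  let τ : KG M G →ₗ[ResField M] ResField M :=
    { toFun := fun a => a.coeff 1
      map_add' := fun a b => by simp
      map_smul' := fun c a => by simp }
  have hnd : ∀ x : KG M G, (∀ y, τ (x * y) = 0) → x = 0 := fun x hx =>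
    MonoidAlgebra.ext (Finsupp.ext fun g => by
      have h : (x * dlt (ResField M) g⁻¹).coeff 1 = 0 := hx (dlt (ResField M) g⁻¹)
      rw [coeff_mul_dlt, inv_inv, one_mul] at h
      rw [h]
      rfl)
  have h8 := finrank_cornerSub_le U.isPrim τ (fun a b => BlockTwo.coeff_mul_one_comm a b) hnd
    ((RankOneSmall.finrank_cornerCenter_le U hB).trans hk.le)
  have hle : (U.n + 1) * (U.n + 1) ≤ S.m b * S.m b :=
    Nat.mul_self_le_mul_self (RankOneSmall.le_component U hM hB hl S hb)
  have hmain := ((RankOneSmall.sum_sq_le_finrank (IsPBlock.isBlockUnion hB)).trans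
    (RankOneSmall.finrank_mulLeft_eB_le U hB)).trans (Nat.mul_le_mul hle h8)
  rw [Finset.sum_congr rfl (g := fun χ => S.m b * S.m b * S.decN χ b ^ 2) fun χ hχ => by
    rw [hdeg χ (Finset.mem_filter.mp hχ).2]; ring, ← Finset.mul_sum] at hmain
  have hm : 0 < S.m b * S.m b :=
    lt_of_lt_of_le (Nat.mul_pos U.n.succ_pos U.n.succ_pos) hle
  exact Nat.le_of_mul_le_mul_left hmain hm

/-- **The order of the defect group and the heights.** -/
theorem block_shape (hM : IsPModular p M) (hB : IsPBlock M B) {P : Subgroup G}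
    (hP : IsDefectGroup p M B P) (hl : blockRank p B = 1) (hk : Nat.card B = 5) :
    Nat.card P = 5 ∨ (Nat.card P = 8 ∧ p = 2 ∧ ∃ χ₁ ∈ B, blockHeight p B (χ₁ : G → ℂ) = 1 ∧
      ∀ χ ∈ B, χ ≠ χ₁ → blockHeight p B (χ : G → ℂ) = 0) := by
  classical
  obtain ⟨S⟩ := nonempty_simples M G
  obtain ⟨η, hη⟩ := IsPBlock.nonempty hB
  obtain ⟨b, hb, -⟩ : ∃ b, S.InB B b ∧ 0 < S.decN η b := by
    by_contra hc
    push Not at hc
    have hdeg := degree_eq_inB S hM hB hη
    rw [Finset.sum_eq_zero fun b hb' => by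
      rw [Nat.le_zero.mp (hc b (Finset.mem_filter.mp hb').2), mul_zero]] at hdeg
    exact (irr_degree_eq η).2.ne' hdeg
  have huniq : ∀ c, S.InB B c → c = b := fun c hc =>
    RankOneSmall.inB_unique hM hB hl S hb (RankOneSmall.pi_eB_eq_one hB S hc)
  have hdec0 : ∀ χ ∈ B, ∀ c, c ≠ b → S.decN χ c = 0 := fun χ hχ c hc =>
    Nat.eq_zero_of_not_pos fun h => hc (huniq c ⟨χ, hχ, h⟩)
  have hdeg : ∀ χ ∈ B, charDegree (χ : G → ℂ) = S.m b * S.decN χ b := fun χ hχ => by
    rw [degree_eq S hM χ, Finset.sum_eq_single b (fun c _ hc => by rw [hdec0 χ hχ c hc, mul_zero])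
      (fun h => absurd (Finset.mem_univ b) h)]
  have hpos : ∀ χ ∈ B, 1 ≤ S.decN χ b := fun χ hχ => Nat.one_le_iff_ne_zero.mpr fun h =>
    (irr_degree_eq χ).2.ne' (by rw [hdeg χ hχ, h, mul_zero])
  set s : Finset (IrrCharacter G) := Finset.univ.filter fun χ => χ ∈ B with hs
  have hmem : ∀ {χ : IrrCharacter G}, χ ∈ s ↔ χ ∈ B := fun {χ} => by simp [hs]
  have hcard : s.card = 5 := by
    rw [hs, ← hk, ← Fintype.card_subtype, ← Nat.card_eq_fintype_card]
  have hshape := five_squares s (fun χ => S.decN χ b) hcard (fun χ hχ => hpos χ (hmem.mp hχ))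
    (sum_sq_decN_le hM hB hP hl hk S hb hdeg)
  set n := ∑ χ ∈ s, S.decN χ b ^ 2 with hn
  obtain ⟨χ₀, hχ₀, h1⟩ : ∃ χ₀ ∈ B, S.decN χ₀ b = 1 := by
    rcases hshape with h | ⟨-, j, hj, -, h⟩
    · exact ⟨η, hη, h η (hmem.mpr hη)⟩
    · obtain ⟨i, hi, hij⟩ := Finset.exists_mem_ne (by omega : 1 < s.card) j
      exact ⟨i, hmem.mp hi, h i hi hij⟩
  -- the heights
  set a := (Nat.card G).factorization p with ha
  set d := blockDefect p B with hd
  obtain ⟨hda, hInf, hall, -⟩ := blockDefect_le_and_degree hM hB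
  have hm0 : S.m b ≠ 0 := fun h => (irr_degree_eq η).2.ne' (by rw [hdeg η hη, h, zero_mul])
  have hfac : ∀ χ ∈ B, (charDegree (χ : G → ℂ)).factorization p =
      (S.m b).factorization p + (S.decN χ b).factorization p := fun χ hχ => by
    rw [hdeg χ hχ, Nat.factorization_mul hm0 (Nat.one_le_iff_ne_zero.mp (hpos χ hχ))]
    rfl
  have hmfac : (S.m b).factorization p = a - d := by
    have h := hfac χ₀ hχ₀
    rw [h1, Nat.factorization_one] at h
    have h' := hall χ₀ hχ₀
    obtain ⟨χ', hχ', h0'⟩ := exists_blockHeight_eq_zero hM hB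
    have h2 := (blockHeight_eq_zero_iff hM hB hχ').mp h0'
    rw [hfac χ' hχ'] at h2
    simp only [Finsupp.coe_zero, Pi.zero_apply, add_zero] at h
    omega
  have hheight : ∀ χ ∈ B, blockHeight p B (χ : G → ℂ) = (S.decN χ b).factorization p := fun χ hχ => by
    rw [blockHeight, hInf, hfac χ hχ, hmfac]
    omega
  -- the sum of the squares is the order of the defect group
  have hlow : p ^ d ∣ n := by
    have hproj : S.proj B b = S.m b * n := by
      rw [Simples.proj, hn, Finset.mul_sum]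
      exact Finset.sum_congr rfl fun χ hχ => by rw [hdeg χ (hmem.mp hχ)]; ring
    have hn0 : n ≠ 0 := fun h => by
      have := (proj_pos S hM hB hb)
      rw [hproj, h, mul_zero] at this
      exact lt_irrefl 0 this
    have h := (hM.1.pow_dvd_iff_le_factorization (mul_ne_zero hm0 hn0)).mp
      (hproj ▸ pow_dvd_proj S hM hB hb)
    rw [Nat.factorization_mul hm0 hn0, Finsupp.add_apply, hmfac, ← ha] at h
    exact (hM.1.pow_dvd_iff_le_factorization hn0).mpr (by omega)
  have hupp : n ∣ p ^ d := by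
    have hint : ∀ χ, ∃ z : ℤ,
        (p : ℂ) ^ d * classInner (regPart p (χ₀ : G → ℂ)) ((χ : IrrCharacter G) : G → ℂ) = (z : ℂ) :=
      fun χ => exists_int_classInner_regPart hM χ₀ χ (by
        rw [hfac χ₀ hχ₀, hmfac]; omega)
    choose z hz using hint
    have hreg : ∀ χ ∈ B, regPart p (χ : G → ℂ) = (S.decN χ b : ℂ) • regPart p (χ₀ : G → ℂ) := by
      intro χ hχ
      funext g
      by_cases hg : IsPRegular p g
      · rw [Pi.smul_apply, regPart_of_regular hg, regPart_of_regular hg,
          value_eq S hM (irr_classFunction χ) hg, value_eq S hM (irr_classFunction χ₀) hg,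
          Finset.sum_eq_single b (fun c _ hc => by rw [dec_eq, hdec0 χ hχ c hc]; simp)
            (fun h => absurd (Finset.mem_univ b) h),
          Finset.sum_eq_single b (fun c _ hc => by rw [dec_eq, hdec0 χ₀ hχ₀ c hc]; simp)
            (fun h => absurd (Finset.mem_univ b) h), dec_eq, dec_eq, h1, smul_eq_mul]
        push_cast
        ring
      · rw [Pi.smul_apply, regPart_of_singular hg, regPart_of_singular hg, smul_zero]
    have hzχ : ∀ χ ∈ B, z χ = (S.decN χ b : ℤ) * z χ₀ := fun χ hχ => by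
      refine Int.cast_injective (α := ℂ) ?_
      rw [Int.cast_mul, Int.cast_natCast, ← hz χ, ← hz χ₀, classInner_regPart_comm, hreg χ hχ,
        Char.classInner_smul_left]
      ring
    have hkey := brauer_indep S hM (fun c => (∑ χ : IrrCharacter G with χ ∈ B,
        z χ * (S.decN χ c : ℤ)) - if b = c then (p : ℤ) ^ d else 0) fun y hy => by
      have h := congrFun (regPart_eq_sum hM (IsPBlock.isBlockUnion hB) hχ₀) y
      rw [regPart_of_regular hy] at h
      simp only [Finset.sum_apply, Pi.smul_apply, smul_eq_mul] at h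
      have h2 : (χ₀ : G → ℂ) y = S.brauer b y := by
        rw [value_eq S hM (irr_classFunction χ₀) hy, Finset.sum_eq_single b
          (fun c _ hc => by rw [dec_eq, hdec0 χ₀ hχ₀ c hc]; simp)
          (fun h' => absurd (Finset.mem_univ b) h'), dec_eq, h1]
        simp
      simp only [Int.cast_sub, Int.cast_sum, Int.cast_mul, Int.cast_natCast, Int.cast_ite,
        Int.cast_pow, Int.cast_zero, sub_mul, ite_mul, zero_mul, Finset.sum_sub_distrib,
        Finset.sum_ite_eq, Finset.mem_univ, if_true, ← hz, Finset.sum_mul]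
      rw [sub_eq_zero, ← h2, h, Finset.sum_comm, Finset.mul_sum]
      refine Finset.sum_congr rfl fun χ _ => ?_
      rw [value_eq S hM (irr_classFunction χ) hy, Finset.mul_sum, Finset.mul_sum]
      exact Finset.sum_congr rfl fun c _ => by rw [dec_eq]; ring
    have h : ∑ χ : IrrCharacter G with χ ∈ B, z χ * (S.decN χ b : ℤ) -
        (if b = b then (p : ℤ) ^ d else 0) = 0 := congrFun hkey b
    rw [if_pos rfl, sub_eq_zero, Finset.sum_congr rfl (g := fun χ => z χ₀ * (S.decN χ b : ℤ) ^ 2)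
      fun χ hχ => by rw [hzχ χ (Finset.mem_filter.mp hχ).2]; ring, ← Finset.mul_sum] at h
    refine Int.natCast_dvd_natCast.mp ⟨z χ₀, ?_⟩
    push_cast
    rw [← h, hn, hs]
    push_cast
    ring
  have hnd : n = p ^ d := Nat.dvd_antisymm hupp hlow
  have hP' : Nat.card P = n := (IsDefectGroup.card_eq hM hB hP).trans hnd.symm
  rcases hshape with h | ⟨h8, j, hj, hj2, hrest⟩
  · left
    rw [hP', hn, Finset.sum_congr rfl (g := fun _ => 1) fun χ hχ => by rw [h χ hχ]; rfl]
    simp [hcard]
  right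
  have h8' : n = 8 := h8
  have hp2 : p = 2 := by
    have hd0 : d ≠ 0 := fun h => by rw [h8', h, pow_zero] at hnd; omega
    have hdvd : p ∣ 2 ^ 3 := by
      rw [show (2 : ℕ) ^ 3 = p ^ d by rw [← hnd, h8']; norm_num]; exact dvd_pow_self p hd0
    exact (Nat.prime_dvd_prime_iff_eq hM.1 Nat.prime_two).mp (hM.1.dvd_of_dvd_pow hdvd)
  refine ⟨hP'.trans h8', hp2, j, hmem.mp hj, ?_, fun χ hχ hne => ?_⟩
  · rw [hheight j (hmem.mp hj), hj2, hp2, Nat.prime_two.factorization_self]
  · rw [hheight χ hχ, hrest χ (hmem.mpr hχ) hne, Nat.factorization_one]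
    rfl

end CfsgLib.Blocks.RankOneFive
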