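import Mathlib.LinearAlgebra.Dual.Lemmas
import Mathlib.LinearAlgebra.FiniteDimensional.Lemmas
import Mathlib.LinearAlgebra.Span.Basic
import Mathlib.Tactic.LinearCombination
import Mathlib.Tactic.FieldSimp

/-!
# Products of consecutive layers of a symmetric graded algebra

If products with the generators are non-degenerate on both sides at the layers `P`, `Q`, `R`, then
`Q` is at least as large as the space of generators, or at least three-dimensional.
-/

set_option autoImplicit false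

namespace CfsgLib.Blocks.RankOneFive

set_option linter.unusedSectionVars false

variable {K V P Q R : Type*} [Field K] [AddCommGroup V] [Module K V] [AddCommGroup P] [Module K P]
  [AddCommGroup Q] [Module K Q] [AddCommGroup R] [Module K R]
  [FiniteDimensional K V] [FiniteDimensional K Q]

/-- A bilinear form with kernel on the left of codimension at most one is a product. -/
theorem exists_prod_of_finrank_range_le_one (φ : V →ₗ[K] Module.Dual K Q)
    (h : Module.finrank K (LinearMap.range φ) ≤ 1) :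
    ∃ (g : Module.Dual K V) (ψ : Module.Dual K Q), ∀ a u, φ a u = g a * ψ u := by
  classical
  by_cases h0 : φ = 0
  · exact ⟨0, 0, fun a u => by simp [h0]⟩
  obtain ⟨a₀, ha₀⟩ : ∃ a, φ a ≠ 0 := by
    by_contra hc
    push Not at hc
    exact h0 (LinearMap.ext hc)
  obtain ⟨u₀, hu₀⟩ : ∃ u, φ a₀ u ≠ 0 := by
    by_contra hc
    push Not at hc
    exact ha₀ (LinearMap.ext hc)
  have hr : LinearMap.range φ = Submodule.span K {φ a₀} := by
    refine (Submodule.eq_of_le_of_finrank_le ?_ (by rw [finrank_span_singleton ha₀]; exact h)).symm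
    rw [Submodule.span_singleton_le_iff_mem]
    exact LinearMap.mem_range_self φ a₀
  refine ⟨(φ a₀ u₀)⁻¹ • φ.flip u₀, φ a₀, fun a u => ?_⟩
  obtain ⟨t, ht⟩ := Submodule.mem_span_singleton.mp
    (hr ▸ LinearMap.mem_range_self φ a : φ a ∈ Submodule.span K {φ a₀})
  simp only [← ht, LinearMap.smul_apply, LinearMap.flip_apply, smul_eq_mul]
  field_simp

/-- A functional vanishes on the left kernel, so that a bijective right side kills a layer. -/
theorem range_ne_top (lp : V →ₗ[K] P →ₗ[K] Q) (rp : P →ₗ[K] V →ₗ[K] Q) (lq : V →ₗ[K] Q →ₗ[K] R)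
    (rq : Q →ₗ[K] V →ₗ[K] R) (hassoc : ∀ a u c, lq a (rp u c) = rq (lp a u) c)
    (hlp : ∀ a, (∀ u, lp a u = 0) → a = 0) (hlt : Module.finrank K Q < Module.finrank K V)
    (φ : Module.Dual K R) : LinearMap.range (rq.flip.compr₂ φ) ≠ ⊤ := by
  intro htop
  have hker : LinearMap.ker (lq.compr₂ φ) ≠ ⊥ :=
    LinearMap.ker_ne_bot_of_finrank_lt (by rwa [Subspace.dual_finrank_eq])
  obtain ⟨a, ha, ha0⟩ := Submodule.exists_mem_ne_zero_of_ne_bot hker
  refine ha0 (hlp a fun u => ?_)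
  refine (Module.forall_dual_apply_eq_zero_iff K _).mp fun ψ => ?_
  obtain ⟨c, hc⟩ := LinearMap.mem_range.mp (htop ▸ Submodule.mem_top : ψ ∈ LinearMap.range (rq.flip.compr₂ φ))
  rw [← hc]
  show φ (rq (lp a u) c) = 0
  rw [← hassoc]
  exact LinearMap.congr_fun (LinearMap.mem_ker.mp ha) (rp u c)

/-- Two products whose sum is a product share a factor. -/
theorem factor_of_add {g g' : Module.Dual K V} {ψ ψ' : Module.Dual K Q}
    (h : ∃ (g'' : Module.Dual K V) (ψ'' : Module.Dual K Q), ∀ a u, g a * ψ u + g' a * ψ' u = g'' a * ψ'' u)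
    (a b : V) (u v : Q) : (g a * g' b - g b * g' a) * (ψ u * ψ' v - ψ v * ψ' u) = 0 := by
  obtain ⟨g'', ψ'', h⟩ := h
  linear_combination (g b * ψ v + g' b * ψ' v) * h a u + g'' a * ψ'' u * h b v -
    (g b * ψ u + g' b * ψ' u) * h a v - g'' a * ψ'' v * h b u

/-- **The middle layer is large.** -/
theorem finrank_le (lp : V →ₗ[K] P →ₗ[K] Q) (rp : P →ₗ[K] V →ₗ[K] Q) (lq : V →ₗ[K] Q →ₗ[K] R)
    (rq : Q →ₗ[K] V →ₗ[K] R) (hassoc : ∀ a u c, lq a (rp u c) = rq (lp a u) c)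
    (hrp : ∀ c, (∀ u, rp u c = 0) → c = 0)
    (hlq : ∀ a, (∀ u, lq a u = 0) → a = 0) (hu : ∀ u, (∀ a, lq a u = 0) → u = 0) :
    min 3 (Module.finrank K V) ≤ Module.finrank K Q := by
  classical
  by_contra hcon
  push Not at hcon
  have hlt : Module.finrank K Q < Module.finrank K V := lt_of_lt_of_le hcon (min_le_right _ _)
  have h2 : Module.finrank K Q ≤ 2 := by
    have := lt_of_lt_of_le hcon (min_le_left _ _)
    omega
  have hl : ∀ φ : Module.Dual K R, Module.finrank K (LinearMap.range (lq.compr₂ φ)) + 1 ≤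
      Module.finrank K Q := fun φ => by
    have h := range_ne_top (K := K) rp.flip lp.flip rq.flip lq.flip
      (fun a u c => (hassoc c u a).symm) hrp hlt φ
    rw [LinearMap.flip_flip] at h
    have h' := Submodule.finrank_lt h
    rw [Subspace.dual_finrank_eq] at h'
    omega
  obtain ⟨a₁, ha₁⟩ : ∃ a : V, a ≠ 0 := by
    by_contra hc
    push Not at hc
    have : Subsingleton V := ⟨fun a b => (hc a).trans (hc b).symm⟩
    rw [Module.finrank_zero_of_subsingleton (M := V)] at hlt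
    omega
  obtain ⟨u₁, hu₁⟩ : ∃ u, lq a₁ u ≠ 0 := by
    by_contra hc
    push Not at hc
    exact ha₁ (hlq _ hc)
  obtain ⟨φ₀, hφ₀⟩ : ∃ φ : Module.Dual K R, φ (lq a₁ u₁) ≠ 0 := by
    by_contra hc
    push Not at hc
    exact hu₁ ((Module.forall_dual_apply_eq_zero_iff K _).mp hc)
  have hQ : Module.finrank K Q = 2 := by
    rcases (show Module.finrank K Q ≤ 1 ∨ Module.finrank K Q = 2 by omega) with h | h
    · exfalso
      have h0 : LinearMap.range (lq.compr₂ φ₀) = ⊥ :=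
        Submodule.finrank_eq_zero.mp (by have := hl φ₀; omega)
      exact hφ₀ (LinearMap.congr_fun (LinearMap.congr_fun (LinearMap.range_eq_bot.mp h0) a₁) u₁)
    · exact h
  have hprod : ∀ φ : Module.Dual K R, ∃ (g : Module.Dual K V) (ψ : Module.Dual K Q),
      ∀ a u, φ (lq a u) = g a * ψ u := fun φ =>
    exists_prod_of_finrank_range_le_one (lq.compr₂ φ) (Nat.le_of_succ_le_succ ((hl φ).trans hQ.le))
  choose g ψ hgψ using hprod
  have hfac : ∀ (φ φ' : Module.Dual K R) (a b : V) (u v : Q),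
      (g φ a * g φ' b - g φ b * g φ' a) * (ψ φ u * ψ φ' v - ψ φ v * ψ φ' u) = 0 :=
    fun φ φ' => factor_of_add ⟨g (φ + φ'), ψ (φ + φ'), fun a u => by
      rw [← hgψ, ← hgψ, ← hgψ, LinearMap.add_apply]⟩
  rw [hgψ] at hφ₀
  have hg0 : g φ₀ a₁ ≠ 0 := left_ne_zero_of_mul hφ₀
  have hψ0 : ψ φ₀ u₁ ≠ 0 := right_ne_zero_of_mul hφ₀
  obtain ⟨u₀, hu₀, hu₀0⟩ := Submodule.exists_mem_ne_zero_of_ne_bot
    (LinearMap.ker_ne_bot_of_finrank_lt (f := ψ φ₀) (by rw [Module.finrank_self]; omega))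
  rw [LinearMap.mem_ker] at hu₀
  obtain ⟨a₂, φ₁, hφ₁⟩ : ∃ a, ∃ φ : Module.Dual K R, φ (lq a u₀) ≠ 0 := by
    by_contra hc
    push Not at hc
    exact hu₀0 (hu _ fun a => (Module.forall_dual_apply_eq_zero_iff K _).mp (hc a))
  rw [hgψ] at hφ₁
  have hψ1 : ψ φ₁ u₀ ≠ 0 := right_ne_zero_of_mul hφ₁
  have hg1 : g φ₁ a₂ ≠ 0 := left_ne_zero_of_mul hφ₁
  have h01 : ∀ a b, g φ₀ a * g φ₁ b = g φ₀ b * g φ₁ a := fun a b => by
    have h := hfac φ₀ φ₁ a b u₁ u₀
    rw [hu₀, zero_mul, sub_zero, mul_eq_zero, sub_eq_zero] at h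
    exact h.resolve_right (mul_ne_zero hψ0 hψ1)
  obtain ⟨a₀, ha₀, ha₀0⟩ := Submodule.exists_mem_ne_zero_of_ne_bot
    (LinearMap.ker_ne_bot_of_finrank_lt (f := g φ₀) (by rw [Module.finrank_self]; omega))
  rw [LinearMap.mem_ker] at ha₀
  have ha₀1 : g φ₁ a₀ = 0 := by
    have h := h01 a₁ a₀
    rw [ha₀, zero_mul, mul_eq_zero] at h
    exact h.resolve_left hg0
  obtain ⟨u, φ₂, hφ₂⟩ : ∃ u, ∃ φ : Module.Dual K R, φ (lq a₀ u) ≠ 0 := by
    by_contra hc
    push Not at hc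
    exact ha₀0 (hlq _ fun u => (Module.forall_dual_apply_eq_zero_iff K _).mp (hc u))
  rw [hgψ] at hφ₂
  have hg2 : g φ₂ a₀ ≠ 0 := left_ne_zero_of_mul hφ₂
  have k0 : ∀ u v, ψ φ₀ u * ψ φ₂ v = ψ φ₀ v * ψ φ₂ u := fun u v => by
    have h := hfac φ₀ φ₂ a₁ a₀ u v
    rw [ha₀, zero_mul, sub_zero, mul_eq_zero, sub_eq_zero] at h
    exact h.resolve_left (mul_ne_zero hg0 hg2)
  have k1 : ∀ u v, ψ φ₁ u * ψ φ₂ v = ψ φ₁ v * ψ φ₂ u := fun u v => by
    have h := hfac φ₁ φ₂ a₂ a₀ u v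
    rw [ha₀1, zero_mul, sub_zero, mul_eq_zero, sub_eq_zero] at h
    exact h.resolve_left (mul_ne_zero hg1 hg2)
  have e0 : ψ φ₂ u₀ = 0 := by
    have h := k0 u₁ u₀
    rw [hu₀, zero_mul, mul_eq_zero] at h
    exact h.resolve_left hψ0
  have e1 := k1 u₀ u
  rw [e0, mul_zero] at e1
  exact mul_ne_zero hψ1 (right_ne_zero_of_mul hφ₂) e1

end CfsgLib.Blocks.RankOneFive
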