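import Mathlib.Algebra.Algebra.Operations
import Mathlib.LinearAlgebra.Dual.Lemmas
import Mathlib.LinearAlgebra.FiniteDimensional.Lemmas
import Cfsg.Agent.Lib.Blocks.RankOneFive.Gen

/-!
# The layers of a trace on the powers of a subspace

For a trace `τ` and a subspace `J` with `J ^ (L + 1) = ⊥` the layer `k` is the quotient of `J ^ k` by
the elements whose products with `J ^ (L - k)` have trace zero.
-/

set_option autoImplicit false
set_option linter.unusedSectionVars false

namespace CfsgLib.Blocks.RankOneFive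

variable {K A : Type*} [Field K] [Ring A] [Algebra K A]

/-- A trace with a nilpotent subspace. -/
structure TraceData (K A : Type*) [Field K] [Ring A] [Algebra K A] where
  τ : A →ₗ[K] K
  sym : ∀ a b, τ (a * b) = τ (b * a)
  J : Submodule K A
  L : ℕ
  vanish : J ^ (L + 1) = ⊥

namespace TraceData

variable (D : TraceData K A)

/-- The elements of a layer pairing to zero. -/
def null (k : ℕ) : Submodule K ↥(D.J ^ k) where
  carrier := {u | ∀ w ∈ D.J ^ (D.L - k), D.τ ((u : A) * w) = 0}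
  zero_mem' := fun w _ => by simp
  add_mem' := fun ha hb w hw => by simp [add_mul, ha w hw, hb w hw]
  smul_mem' := fun c a ha w hw => by simp [ha w hw]

/-- The layer `k`. -/
abbrev G (k : ℕ) : Type _ := ↥(D.J ^ k) ⧸ D.null k

/-- The class of an element. -/
def cls (k : ℕ) : ↥(D.J ^ k) →ₗ[K] D.G k := (D.null k).mkQ

theorem cls_surj (k : ℕ) (u : D.G k) : ∃ a, D.cls k a = u := Submodule.mkQ_surjective _ u

theorem cls_eq_zero {k : ℕ} {u : ↥(D.J ^ k)} :
    D.cls k u = 0 ↔ ∀ w ∈ D.J ^ (D.L - k), D.τ ((u : A) * w) = 0 :=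
  Submodule.Quotient.mk_eq_zero _

theorem mul_mem_pow {i j n : ℕ} (h : i + j = n) {a b : A} (ha : a ∈ D.J ^ i) (hb : b ∈ D.J ^ j) :
    a * b ∈ D.J ^ n := by
  subst h
  rw [pow_add]
  exact Submodule.mul_mem_mul ha hb

/-- The deeper powers pair to zero. -/
theorem cls_eq_zero_of_mem {k : ℕ} (hk : k ≤ D.L) {u : ↥(D.J ^ k)} (h : (u : A) ∈ D.J ^ (k + 1)) :
    D.cls k u = 0 := D.cls_eq_zero.mpr fun w hw => by
  have h' := D.mul_mem_pow (show k + 1 + (D.L - k) = D.L + 1 by omega) h hw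
  rw [D.vanish, Submodule.mem_bot] at h'
  rw [h', map_zero]

/-- The product of two elements, in its layer. -/
def mulLayer {i j n : ℕ} (h : i + j = n) : ↥(D.J ^ i) →ₗ[K] ↥(D.J ^ j) →ₗ[K] D.G n :=
  LinearMap.mk₂ K (fun a b => D.cls n ⟨(a : A) * b, D.mul_mem_pow h a.2 b.2⟩)
    (fun a a' b => by rw [← map_add]; exact congrArg _ (Subtype.ext (add_mul _ _ _)))
    (fun c a b => by rw [← map_smul]; exact congrArg _ (Subtype.ext (smul_mul_assoc _ _ _)))
    (fun a b b' => by rw [← map_add]; exact congrArg _ (Subtype.ext (mul_add _ _ _)))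
    (fun c a b => by rw [← map_smul]; exact congrArg _ (Subtype.ext (mul_smul_comm _ _ _)))

theorem mulLayer_null_left {i j n : ℕ} (h : i + j = n) (hn : n ≤ D.L) :
    D.null i ≤ LinearMap.ker (D.mulLayer h) := fun a ha => by
  rw [LinearMap.mem_ker]
  refine LinearMap.ext fun b => D.cls_eq_zero.mpr fun w hw => ?_
  show D.τ ((a : A) * b * w) = 0
  rw [mul_assoc]
  exact ha _ (D.mul_mem_pow (by omega) b.2 hw)

theorem mulLayer_null_right {i j n : ℕ} (h : i + j = n) (hn : n ≤ D.L) (a : ↥(D.J ^ i))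
    {b : ↥(D.J ^ j)} (hb : b ∈ D.null j) : D.mulLayer h a b = 0 :=
  D.cls_eq_zero.mpr fun w hw => by
    show D.τ ((a : A) * b * w) = 0
    rw [mul_assoc, D.sym, mul_assoc]
    exact hb _ (D.mul_mem_pow (by omega) hw a.2)

/-- The product of two layers. -/
def mulG {i j n : ℕ} (h : i + j = n) (hn : n ≤ D.L) : D.G i →ₗ[K] D.G j →ₗ[K] D.G n :=
  ((D.null j).liftQ ((D.null i).liftQ (D.mulLayer h) (D.mulLayer_null_left h hn)).flip
    fun b hb => by
      rw [LinearMap.mem_ker]
      refine LinearMap.ext fun u => ?_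
      obtain ⟨a, rfl⟩ := Submodule.mkQ_surjective _ u
      exact D.mulLayer_null_right h hn a hb).flip

theorem mulG_cls {i j n : ℕ} (h : i + j = n) (hn : n ≤ D.L) (a : ↥(D.J ^ i)) (b : ↥(D.J ^ j)) :
    D.mulG h hn (D.cls i a) (D.cls j b) = D.cls n ⟨(a : A) * b, D.mul_mem_pow h a.2 b.2⟩ := rfl

theorem cls_congr {k : ℕ} {u v : ↥(D.J ^ k)} (h : (u : A) = v) : D.cls k u = D.cls k v :=
  congrArg _ (Subtype.ext h)

theorem mulG_assoc {i j k p q n : ℕ} (hp : i + j = p) (hq : j + k = q) (h1 : i + q = n)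
    (h2 : p + k = n) (hpl : p ≤ D.L) (hql : q ≤ D.L) (hn : n ≤ D.L)
    (a : D.G i) (b : D.G j) (c : D.G k) :
    D.mulG h1 hn a (D.mulG hq hql b c) = D.mulG h2 hn (D.mulG hp hpl a b) c := by
  obtain ⟨a, rfl⟩ := D.cls_surj i a
  obtain ⟨b, rfl⟩ := D.cls_surj j b
  obtain ⟨c, rfl⟩ := D.cls_surj k c
  exact D.cls_congr (mul_assoc _ _ _).symm

/-- A subspace of a layer containing all the products of two layers is everything. -/
theorem eq_top_of_prod {i j n : ℕ} (h : i + j = n) (hn : n ≤ D.L) {T : Submodule K (D.G n)}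
    (hT : ∀ a b, D.mulG h hn a b ∈ T) : T = ⊤ := by
  refine Submodule.eq_top_iff'.mpr fun u => ?_
  obtain ⟨⟨a, ha⟩, rfl⟩ := D.cls_surj n u
  have ha' : a ∈ D.J ^ i * D.J ^ j := by rwa [← pow_add, h]
  have key : ∀ a ∈ D.J ^ i * D.J ^ j, ∀ ha : a ∈ D.J ^ n, D.cls n ⟨a, ha⟩ ∈ T := by
    intro a ha
    induction ha using Submodule.mul_induction_on' with
    | mem_mul_mem x hx y hy => exact fun _ => hT (D.cls i ⟨x, hx⟩) (D.cls j ⟨y, hy⟩)
    | add x hx y hy ihx ihy =>
      intro hxy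
      have hx' : x ∈ D.J ^ n := by rw [← h, pow_add]; exact hx
      have hy' : y ∈ D.J ^ n := by rw [← h, pow_add]; exact hy
      exact (map_add (D.cls n) ⟨x, hx'⟩ ⟨y, hy'⟩) ▸ add_mem (ihx hx') (ihy hy')
  exact key a ha' ha

theorem prod_span {i j n : ℕ} (h : i + j = n) (hn : n ≤ D.L) :
    Submodule.span K (Set.range fun q : D.G i × D.G j => D.mulG h hn q.1 q.2) = ⊤ :=
  D.eq_top_of_prod h hn fun a b => Submodule.subset_span ⟨(a, b), rfl⟩

/-- Non-degeneracy on the left. -/
theorem left_ne {i k n : ℕ} (h : i + k = n) (hn : n ≤ D.L) (a : D.G i)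
    (h0 : ∀ u, D.mulG h hn a u = 0) : a = 0 := by
  obtain ⟨a, rfl⟩ := D.cls_surj i a
  refine D.cls_eq_zero.mpr fun w hw => ?_
  rw [show D.L - i = k + (D.L - n) by omega, pow_add] at hw
  induction hw using Submodule.mul_induction_on' with
  | mem_mul_mem u hu w hw =>
    rw [← mul_assoc]
    exact D.cls_eq_zero.mp (h0 (D.cls k ⟨u, hu⟩)) w hw
  | add x _ y _ hx hy => rw [mul_add, map_add, hx, hy, add_zero]

/-- Non-degeneracy on the right. -/
theorem right_ne {i k n : ℕ} (h : k + i = n) (hn : n ≤ D.L) (a : D.G i)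
    (h0 : ∀ u, D.mulG h hn u a = 0) : a = 0 := by
  obtain ⟨a, rfl⟩ := D.cls_surj i a
  refine D.cls_eq_zero.mpr fun w hw => ?_
  rw [show D.L - i = (D.L - n) + k by omega, pow_add] at hw
  induction hw using Submodule.mul_induction_on' with
  | mem_mul_mem w hw u hu =>
    rw [D.sym, mul_assoc, D.sym]
    exact D.cls_eq_zero.mp (h0 (D.cls k ⟨u, hu⟩)) w hw
  | add x _ y _ hx hy => rw [mul_add, map_add, hx, hy, add_zero]

/-- A layer below the top is not zero. -/
theorem finrank_pos [FiniteDimensional K A] {k : ℕ} (hk : k ≤ D.L)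
    (hL : ∃ s ∈ D.J ^ D.L, D.τ s ≠ 0) : 0 < Module.finrank K (D.G k) := by
  refine Nat.pos_of_ne_zero fun h0 => ?_
  have hsub : Subsingleton (D.G k) := Module.finrank_zero_iff.mp h0
  have htop := D.eq_top_of_prod (T := ⊥) (show k + (D.L - k) = D.L by omega) le_rfl fun a b => by
    rw [Subsingleton.elim a 0, map_zero, LinearMap.zero_apply]; exact zero_mem _
  obtain ⟨s, hs, hτ⟩ := hL
  have : D.cls D.L ⟨s, hs⟩ = 0 := (Submodule.mem_bot K).mp (htop ▸ Submodule.mem_top)
  have h1 := D.cls_eq_zero.mp this 1 (by rw [Nat.sub_self, Submodule.pow_zero]; exact Submodule.one_le.mp le_rfl)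
  rw [mul_one] at h1
  exact hτ h1

variable [FiniteDimensional K A]

/-- A layer is no larger than a set of elements spanning it. -/
theorem finrank_le_of_span {k : ℕ} {ι : Type*} [Fintype ι] (f : ι → ↥(D.J ^ k))
    (h : ∀ u : ↥(D.J ^ k), D.cls k u ∈ Submodule.span K (Set.range fun i => D.cls k (f i))) :
    Module.finrank K (D.G k) ≤ Fintype.card ι := by
  have htop : Submodule.span K (Set.range fun i => D.cls k (f i)) = ⊤ :=
    Submodule.eq_top_iff'.mpr fun u => by
      obtain ⟨a, rfl⟩ := D.cls_surj k u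
      exact h a
  rw [← finrank_top K (D.G k), ← htop]
  exact finrank_range_le_card (R := K) fun i => D.cls k (f i)

/-- The middle layer is large. -/
theorem layer_large {k : ℕ} (hk : k + 2 ≤ D.L) :
    min 3 (Module.finrank K (D.G 1)) ≤ Module.finrank K (D.G (k + 1)) :=
  finrank_le (D.mulG (show 1 + k = k + 1 by omega) (by omega))
    (D.mulG (show k + 1 = k + 1 from rfl) (by omega))
    (D.mulG (show 1 + (k + 1) = k + 2 by omega) hk)
    (D.mulG (show k + 1 + 1 = k + 2 from rfl) hk)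
    (fun a u c => D.mulG_assoc _ _ _ _ _ _ _ a u c)
    (fun c h => D.right_ne rfl (by omega) c h)
    (fun a h => D.left_ne (show 1 + (k + 1) = k + 2 by omega) hk a h)
    (fun u h => D.right_ne (show 1 + (k + 1) = k + 2 by omega) hk u h)

end TraceData

end CfsgLib.Blocks.RankOneFive
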