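import Mathlib.Tactic.Module
import Mathlib.LinearAlgebra.Dimension.OrzechProperty
import Cfsg.Agent.Lib.Blocks.RankOneFive.Graded

/-!
# Commutators in a nilpotent subspace with a trace

Expansion of products and of commutators along generators modulo deeper powers, and the classes of
commutators in the layers of the trace.
-/

set_option autoImplicit false
set_option linter.unusedSectionVars false

namespace CfsgLib.Blocks.RankOneFive

variable {K A : Type*} [Field K] [Ring A] [Algebra K A]

/-- The commutator with `a`. -/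
def adj (a : A) : A →ₗ[K] A := LinearMap.mulLeft K a - LinearMap.mulRight K a

theorem adj_apply (a b : A) : adj (K := K) a b = a * b - b * a := rfl

/-- The span of the commutators of `J` with `J ^ k`. -/
def commPow (J : Submodule K A) (k : ℕ) : Submodule K A :=
  Submodule.span K {d | ∃ a ∈ J, ∃ b ∈ J ^ k, a * b - b * a = d}

theorem mem_commPow {J : Submodule K A} {k : ℕ} {a b : A} (ha : a ∈ J) (hb : b ∈ J ^ k) :
    a * b - b * a ∈ commPow J k := Submodule.subset_span ⟨a, ha, b, hb, rfl⟩

theorem mem_commPow' {J : Submodule K A} {k : ℕ} {a b : A} (ha : a ∈ J) (hb : b ∈ J ^ k) :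
    b * a - a * b ∈ commPow J k := by
  rw [← neg_sub]
  exact neg_mem (mem_commPow ha hb)

theorem commPow_le (J : Submodule K A) (k : ℕ) : commPow J k ≤ J ^ (k + 1) := by
  refine Submodule.span_le.mpr ?_
  rintro _ ⟨a, ha, b, hb, rfl⟩
  refine sub_mem ?_ ?_
  · rw [pow_succ']; exact Submodule.mul_mem_mul ha hb
  · rw [pow_succ]; exact Submodule.mul_mem_mul hb ha

variable {J : Submodule K A}

theorem pow_anti (hJ : J * J ≤ J) {m n : ℕ} (hm : 1 ≤ m) (hmn : m ≤ n) : J ^ n ≤ J ^ m := by
  induction n, hmn using Nat.le_induction with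
  | base => rfl
  | succ n hn ih =>
    refine le_trans ?_ ih
    obtain ⟨n, rfl⟩ := Nat.exists_eq_add_of_le' (hm.trans hn)
    rw [pow_succ, pow_succ, mul_assoc]
    exact mul_le_mul' le_rfl hJ

/-- Products expand along generators modulo the cube. -/
theorem sq_le_of_gen {ι : Type*} {f : ι → A} (hf : ∀ i, f i ∈ J)
    (hgen : J ≤ Submodule.span K (Set.range f) ⊔ J ^ 2) :
    J ^ 2 ≤ Submodule.span K (Set.range fun q : ι × ι => f q.1 * f q.2) ⊔ J ^ 3 := by
  set T := Submodule.span K (Set.range fun q : ι × ι => f q.1 * f q.2) ⊔ J ^ 3 with hT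
  have h1 : ∀ i, J ≤ T.comap (LinearMap.mulLeft K (f i)) := fun i => by
    refine hgen.trans (sup_le (Submodule.span_le.mpr ?_) fun b hb => ?_)
    · rintro _ ⟨j, rfl⟩
      exact Submodule.mem_sup_left (Submodule.subset_span ⟨(i, j), rfl⟩)
    · exact Submodule.mem_sup_right (by rw [pow_succ']; exact Submodule.mul_mem_mul (hf i) hb)
  rw [pow_two, Submodule.mul_le]
  intro a ha b hb
  have h2 : J ≤ T.comap (LinearMap.mulRight K b) := by
    refine hgen.trans (sup_le (Submodule.span_le.mpr ?_) fun a ha => ?_)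
    · rintro _ ⟨i, rfl⟩
      exact h1 i hb
    · exact Submodule.mem_sup_right (by rw [pow_succ]; exact Submodule.mul_mem_mul ha hb)
  exact h2 ha

/-- Commutators expand along generators modulo the commutators with the square. -/
theorem commPow_one_le {ι : Type*} {f : ι → A} (hf : ∀ i, f i ∈ J)
    (hgen : J ≤ Submodule.span K (Set.range f) ⊔ J ^ 2) :
    commPow J 1 ≤ Submodule.span K (Set.range fun q : ι × ι => f q.1 * f q.2 - f q.2 * f q.1) ⊔
      commPow J 2 := by
  set T := Submodule.span K (Set.range fun q : ι × ι => f q.1 * f q.2 - f q.2 * f q.1) ⊔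
      commPow J 2 with hT
  have h1 : ∀ i, J ≤ T.comap (adj (f i)) := fun i => by
    refine hgen.trans (sup_le (Submodule.span_le.mpr ?_) fun b hb => ?_)
    · rintro _ ⟨j, rfl⟩
      exact Submodule.mem_sup_left (Submodule.subset_span ⟨(i, j), rfl⟩)
    · exact Submodule.mem_sup_right (mem_commPow (hf i) hb)
  refine Submodule.span_le.mpr ?_
  rintro _ ⟨a, ha, b, hb, rfl⟩
  rw [pow_one] at hb
  have h2 : J ≤ T.comap (-adj b) := by
    refine hgen.trans (sup_le (Submodule.span_le.mpr ?_) fun a ha => ?_)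
    · rintro _ ⟨i, rfl⟩
      show -(b * f i - f i * b) ∈ T
      rw [neg_sub]
      exact h1 i hb
    · show -(b * a - a * b) ∈ T
      exact neg_mem (Submodule.mem_sup_right (mem_commPow hb ha))
  rw [← neg_sub]
  exact h2 ha

/-- Commutators with the square expand along generators of both. -/
theorem commPow_two_le {ι κ : Type*} {f : ι → A} (hf : ∀ i, f i ∈ J)
    (hgen : J ≤ Submodule.span K (Set.range f) ⊔ J ^ 2) {g : κ → A}
    (hgen' : J ^ 2 ≤ Submodule.span K (Set.range g) ⊔ J ^ 3) :
    commPow J 2 ≤ Submodule.span K (Set.range fun q : ι × κ => f q.1 * g q.2 - g q.2 * f q.1) ⊔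
      commPow J 3 := by
  set T := Submodule.span K (Set.range fun q : ι × κ => f q.1 * g q.2 - g q.2 * f q.1) ⊔
      commPow J 3 with hT
  have h1 : ∀ i, J ^ 2 ≤ T.comap (adj (f i)) := fun i => by
    refine hgen'.trans (sup_le (Submodule.span_le.mpr ?_) fun b hb => ?_)
    · rintro _ ⟨j, rfl⟩
      exact Submodule.mem_sup_left (Submodule.subset_span ⟨(i, j), rfl⟩)
    · exact Submodule.mem_sup_right (mem_commPow (hf i) hb)
  refine Submodule.span_le.mpr ?_
  rintro _ ⟨a, ha, b, hb, rfl⟩
  have h2 : J ≤ T.comap (-adj b) := by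
    refine hgen.trans (sup_le (Submodule.span_le.mpr ?_) fun a ha => ?_)
    · rintro _ ⟨i, rfl⟩
      show -(b * f i - f i * b) ∈ T
      rw [neg_sub]
      exact h1 i hb
    · show -(b * a - a * b) ∈ T
      rw [neg_sub]
      rw [pow_two] at ha
      induction ha using Submodule.mul_induction_on' with
      | mem_mul_mem c hc d hd =>
        refine Submodule.mem_sup_right ?_
        rw [show c * d * b - b * (c * d) = (c * (d * b) - d * b * c) + (d * (b * c) - b * c * d) by
          simp only [mul_assoc]; abel]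
        refine add_mem (mem_commPow hc ?_) (mem_commPow hd ?_)
        · rw [pow_succ']; exact Submodule.mul_mem_mul hd hb
        · rw [pow_succ]; exact Submodule.mul_mem_mul hb hc
      | add u _ v _ hu hv =>
        rw [show (u + v) * b - b * (u + v) = (u * b - b * u) + (v * b - b * v) by
          rw [add_mul, mul_add]; abel]
        exact add_mem hu hv
  rw [← neg_sub]
  exact h2 ha

namespace TraceData

variable (D : TraceData K A)

/-- The span of the commutators of two layers. -/
def commLayer {k n : ℕ} (h : 1 + k = n) (hn : n ≤ D.L) : Submodule K (D.G n) :=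
  Submodule.span K (Set.range fun q : D.G 1 × D.G k =>
    D.mulG h hn q.1 q.2 - D.mulG ((Nat.add_comm k 1).trans h) hn q.2 q.1)

/-- A commutator with a power has its class in the span of the commutators of the layers. -/
theorem cls_mem_commLayer {k n : ℕ} (h : 1 + k = n) (hn : n ≤ D.L) :
    ∀ e ∈ commPow D.J k, ∃ he : e ∈ D.J ^ n, D.cls n ⟨e, he⟩ ∈ D.commLayer h hn := by
  subst h
  intro e he
  induction he using Submodule.span_induction with
  | mem e h =>
    obtain ⟨a, ha, b, hb, rfl⟩ := h
    have ha' : a ∈ D.J ^ 1 := by rwa [pow_one]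
    refine ⟨sub_mem (D.mul_mem_pow rfl ha' hb) (D.mul_mem_pow (Nat.add_comm k 1) hb ha'), ?_⟩
    refine Submodule.subset_span ⟨(D.cls 1 ⟨a, ha'⟩, D.cls k ⟨b, hb⟩), ?_⟩
    show D.mulG _ hn (D.cls 1 _) (D.cls k _) - D.mulG _ hn (D.cls k _) (D.cls 1 _) = _
    rw [D.mulG_cls, D.mulG_cls, ← map_sub]
    rfl
  | zero => exact ⟨zero_mem _, by simp [show (⟨0, zero_mem _⟩ : ↥(D.J ^ (1 + k))) = 0 from rfl]⟩
  | add u v _ _ hu hv =>
    obtain ⟨hu, hu'⟩ := hu
    obtain ⟨hv, hv'⟩ := hv
    refine ⟨add_mem hu hv, ?_⟩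
    rw [show (⟨u + v, add_mem hu hv⟩ : ↥(D.J ^ (1 + k))) = ⟨u, hu⟩ + ⟨v, hv⟩ from rfl, map_add]
    exact add_mem hu' hv'
  | smul c u _ hu =>
    obtain ⟨hu, hu'⟩ := hu
    refine ⟨Submodule.smul_mem _ c hu, ?_⟩
    rw [show (⟨c • u, Submodule.smul_mem _ c hu⟩ : ↥(D.J ^ (1 + k))) = c • ⟨u, hu⟩ from rfl,
      map_smul]
    exact Submodule.smul_mem _ c hu'

/-- Classes depend only on the element modulo the deeper power. -/
theorem cls_eq_of_sub_mem {k : ℕ} (hk : k ≤ D.L) {u v : ↥(D.J ^ k)}
    (h : (u : A) - v ∈ D.J ^ (k + 1)) : D.cls k u = D.cls k v :=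
  sub_eq_zero.mp (by rw [← map_sub]; exact D.cls_eq_zero_of_mem hk h)

/-- Spanning a power modulo the next one spans the layer. -/
theorem cls_mem_span {k : ℕ} (hk : k ≤ D.L) {ι : Type*} (f : ι → ↥(D.J ^ k)) {u : ↥(D.J ^ k)}
    (h : (u : A) ∈ Submodule.span K (Set.range fun i => (f i : A)) ⊔ D.J ^ (k + 1)) :
    D.cls k u ∈ Submodule.span K (Set.range fun i => D.cls k (f i)) := by
  obtain ⟨v, hv, w, hw, hvw⟩ := Submodule.mem_sup.mp h
  have hmap : Submodule.span K (Set.range fun i => (f i : A)) =
      (Submodule.span K (Set.range f)).map (D.J ^ k).subtype := by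
    rw [Submodule.map_span, ← Set.range_comp]; rfl
  rw [hmap] at hv
  obtain ⟨v', hv', rfl⟩ := Submodule.mem_map.mp hv
  rw [D.cls_eq_of_sub_mem hk (v := v') (by
    rw [← hvw, Submodule.coe_subtype, add_sub_cancel_left]; exact hw)]
  rw [show (Set.range fun i => D.cls k (f i)) = D.cls k '' Set.range f from Set.range_comp _ _,
    ← Submodule.map_span]
  exact Submodule.mem_map_of_mem hv'

end TraceData

/-- A space spanned by alternating products of at most two vectors has dimension at most one, and
none if there is at most one vector. -/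
theorem finrank_le_of_comm_span {V W : Type*} [AddCommGroup V] [Module K V] [FiniteDimensional K V]
    [AddCommGroup W] [Module K W] [FiniteDimensional K W] (m : V →ₗ[K] V →ₗ[K] W)
    (hW : Submodule.span K (Set.range fun q : V × V => m q.1 q.2 - m q.2 q.1) = ⊤)
    (h : Module.finrank K V ≤ 2) : Module.finrank K W ≤ Module.finrank K V - 1 := by
  classical
  obtain ⟨n, hn⟩ : ∃ n, Module.finrank K V = n := ⟨_, rfl⟩
  let b' : Module.Basis (Fin n) K V := Module.finBasisOfFinrankEq K V hn
  rw [hn] at h ⊢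
  rcases Nat.lt_or_ge n 2 with h2 | h2
  · have : Subsingleton (Fin n) := Fin.subsingleton_iff_le_one.mpr (by omega)
    have htop : (⊥ : Submodule K W) = ⊤ := by
      rw [← hW]
      refine (Submodule.span_eq_bot.mpr ?_).symm
      rintro _ ⟨⟨p, q⟩, rfl⟩
      show m p q - m q p = 0
      conv_lhs => rw [← b'.sum_repr p, ← b'.sum_repr q]
      simp only [map_sum, map_smul, LinearMap.sum_apply, LinearMap.smul_apply, Finset.smul_sum]
      rw [Finset.sum_comm, ← Finset.sum_sub_distrib]
      refine Finset.sum_eq_zero fun i _ => ?_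
      rw [← Finset.sum_sub_distrib]
      refine Finset.sum_eq_zero fun j _ => ?_
      rw [Subsingleton.elim j i]
      module
    rw [← finrank_top K W, ← htop, finrank_bot]
    omega
  · obtain rfl : n = 2 := by omega
    have htop : Submodule.span K {m (b' 0) (b' 1) - m (b' 1) (b' 0)} = ⊤ := by
      refine eq_top_iff.mpr (hW ▸ Submodule.span_le.mpr ?_)
      rintro _ ⟨⟨p, q⟩, rfl⟩
      refine Submodule.mem_span_singleton.mpr
        ⟨b'.repr p 0 * b'.repr q 1 - b'.repr p 1 * b'.repr q 0, ?_⟩
      show _ = m p q - m q p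
      conv_rhs => rw [← b'.sum_repr p, ← b'.sum_repr q]
      simp only [Fin.sum_univ_two, map_add, map_smul, LinearMap.add_apply, LinearMap.smul_apply]
      module
    rw [← finrank_top K W, ← htop]
    exact finrank_span_le_card (R := K) _ |>.trans (by simp)

end CfsgLib.Blocks.RankOneFive
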