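import Cfsg.Agent.Lib.Blocks.RankOneFive.LocalThree

/-!
# Commutators with the square in the case of two generators

Modulo the commutators with the cube, the commutators with the square are spanned by two elements.
-/

set_option autoImplicit false
set_option linter.unusedSectionVars false

namespace CfsgLib.Blocks.RankOneFive

variable {K A : Type*} [Field K] [Ring A] [Algebra K A] [FiniteDimensional K A]

/-- Two vectors independent over a subspace of codimension two generate. -/
theorem le_span_pair {W V : Submodule K A} (hWV : W ≤ V)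
    (h : Module.finrank K V ≤ Module.finrank K W + 2) {a b : A} (ha : a ∈ V) (hb : b ∈ V)
    (ha' : a ∉ W) (hb' : b ∉ Submodule.span K {a} ⊔ W) :
    V ≤ Submodule.span K {a, b} ⊔ W := by
  set W₁ := Submodule.span K {a} ⊔ W with hW₁
  set W₂ := Submodule.span K {b} ⊔ W₁ with hW₂
  have h1 : W < W₁ := lt_of_le_of_ne le_sup_right fun e =>
    ha' (e ▸ Submodule.mem_sup_left (Submodule.mem_span_singleton_self a))
  have h2 : W₁ < W₂ := lt_of_le_of_ne le_sup_right fun e =>
    hb' (e ▸ Submodule.mem_sup_left (Submodule.mem_span_singleton_self b))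
  have hle : W₂ ≤ V := sup_le ((Submodule.span_singleton_le_iff_mem _ _).mpr hb)
    (sup_le ((Submodule.span_singleton_le_iff_mem _ _).mpr ha) hWV)
  have h3 := Submodule.finrank_lt_finrank_of_lt h1
  have h4 := Submodule.finrank_lt_finrank_of_lt h2
  refine (Submodule.eq_of_le_of_finrank_le hle (by omega)).ge.trans ?_
  exact sup_le ((Submodule.span_mono (by simp)).trans le_sup_left)
    (sup_le ((Submodule.span_mono (by simp)).trans le_sup_left) le_sup_right)

theorem eq_zero_of_relations {E : Type*} [AddCommGroup E] [Module K E] {X Y : E} {α β γ : K}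
    (h1 : α • X = 0) (h2 : β • Y = 0) (h3 : α • Y + γ • X = 0) (h4 : β • X + γ • Y = 0)
    (h : α ≠ 0 ∨ β ≠ 0 ∨ γ ≠ 0) : X = 0 ∧ Y = 0 := by
  by_cases hα : α = 0
  · by_cases hβ : β = 0
    · have hγ : γ ≠ 0 := by tauto
      rw [hα, zero_smul, zero_add] at h3
      rw [hβ, zero_smul, zero_add] at h4
      exact ⟨(smul_eq_zero.mp h3).resolve_left hγ, (smul_eq_zero.mp h4).resolve_left hγ⟩
    · have hY := (smul_eq_zero.mp h2).resolve_left hβ
      rw [hY, smul_zero, add_zero] at h4
      exact ⟨(smul_eq_zero.mp h4).resolve_left hβ, hY⟩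
  · have hX := (smul_eq_zero.mp h1).resolve_left hα
    rw [hX, smul_zero, add_zero] at h3
    exact ⟨hX, (smul_eq_zero.mp h3).resolve_left hα⟩

theorem range_pair {B : Type*} (a b : B) : Set.range (![a, b] : Fin 2 → B) = {a, b} := by
  ext z
  simp [eq_comm, or_comm]

variable {J : Submodule K A}

/-- If the squares of the elements are a line modulo the cube, either the square is one too, or two
commutators suffice. -/
theorem exists_pair_of_squares_line {x y : A} (hx : x ∈ J) (hy : y ∈ J)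
    (hgen : J ≤ Submodule.span K {x, y} ⊔ J ^ 2) {z : A}
    (hsq : ∀ a ∈ J, a * a ∈ Submodule.span K {z} ⊔ J ^ 3)
    (hline : ∀ w ∈ J ^ 2, ¬J ^ 2 ≤ Submodule.span K {w} ⊔ J ^ 3) :
    ∃ u v : A, u ∈ commPow J 2 ∧ v ∈ commPow J 2 ∧
      commPow J 2 ≤ Submodule.span K {u, v} ⊔ commPow J 3 := by
  have hcoef : ∀ t, t ∈ Submodule.span K {z} ⊔ J ^ 3 → ∃ s : K, t - s • z ∈ J ^ 3 := fun t ht => by
    obtain ⟨p, hp, w, hw, rfl⟩ := Submodule.mem_sup.mp ht
    obtain ⟨s, rfl⟩ := Submodule.mem_span_singleton.mp hp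
    exact ⟨s, by rwa [add_sub_cancel_left]⟩
  obtain ⟨α, hα⟩ := hcoef _ (hsq x hx)
  obtain ⟨β, hβ⟩ := hcoef _ (hsq y hy)
  obtain ⟨γ, hγ⟩ := hcoef (x * y + y * x) (by
    rw [show x * y + y * x = (x + y) * (x + y) - x * x - y * y by
      simp only [add_mul, mul_add]; abel]
    exact sub_mem (sub_mem (hsq _ (add_mem hx hy)) (hsq x hx)) (hsq y hy))
  set w := x * y with hw
  have hw2 : w ∈ J ^ 2 := by rw [pow_two]; exact Submodule.mul_mem_mul hx hy
  have hf : ∀ i, ![x, y] i ∈ J := by intro i; fin_cases i <;> assumption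
  have hgenf : J ≤ Submodule.span K (Set.range ![x, y]) ⊔ J ^ 2 := by rwa [range_pair]
  have hJ2 : J ^ 2 ≤ Submodule.span K (Set.range ![z, w]) ⊔ J ^ 3 := by
    refine (sq_le_of_gen hf hgenf).trans (sup_le (Submodule.span_le.mpr ?_) le_sup_right)
    have hz' : ∀ s : K, s • z ∈ Submodule.span K (Set.range ![z, w]) := fun s =>
      Submodule.smul_mem _ _ (Submodule.subset_span ⟨0, rfl⟩)
    have hw' : w ∈ Submodule.span K (Set.range ![z, w]) := Submodule.subset_span ⟨1, rfl⟩
    rintro _ ⟨⟨i, j⟩, rfl⟩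
    fin_cases i <;> fin_cases j
    · show x * x ∈ _
      exact Submodule.mem_sup.mpr ⟨_, hz' α, _, hα, add_sub_cancel _ _⟩
    · exact Submodule.mem_sup_left hw'
    · show y * x ∈ _
      refine Submodule.mem_sup.mpr ⟨γ • z - w, sub_mem (hz' γ) hw', _, hγ, ?_⟩
      rw [hw]; abel
    · show y * y ∈ _
      exact Submodule.mem_sup.mpr ⟨_, hz' β, _, hβ, add_sub_cancel _ _⟩
  have hne : α ≠ 0 ∨ β ≠ 0 ∨ γ ≠ 0 := by
    by_contra h
    simp only [not_or, not_not] at h
    obtain ⟨rfl, rfl, rfl⟩ := h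
    simp only [zero_smul, sub_zero] at hα hβ hγ
    refine hline w hw2 ((sq_le_of_gen hf hgenf).trans (sup_le (Submodule.span_le.mpr ?_) le_sup_right))
    rintro _ ⟨⟨i, j⟩, rfl⟩
    fin_cases i <;> fin_cases j
    · exact Submodule.mem_sup_right hα
    · exact Submodule.mem_sup_left (Submodule.mem_span_singleton_self _)
    · show y * x ∈ _
      rw [show y * x = -w + (x * y + y * x) by rw [hw]; abel]
      exact Submodule.add_mem_sup (neg_mem (Submodule.mem_span_singleton_self _)) hγ
    · exact Submodule.mem_sup_right hβ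
  let π := (commPow J 3).mkQ
  have hπ : ∀ a ∈ J, ∀ b ∈ J ^ 3, π (a * b - b * a) = 0 := fun a ha b hb =>
    (Submodule.Quotient.mk_eq_zero _).mpr (mem_commPow ha hb)
  have r1 : α • π (x * z - z * x) = 0 := by
    have h := hπ x hx _ hα
    rw [show x * (x * x - α • z) - (x * x - α • z) * x = -(α • (x * z - z * x)) by
      simp only [mul_sub, sub_mul, mul_smul_comm, smul_mul_assoc, mul_assoc]; module] at h
    rwa [map_neg, map_smul, neg_eq_zero] at h
  have r2 : β • π (y * z - z * y) = 0 := by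
    have h := hπ y hy _ hβ
    rw [show y * (y * y - β • z) - (y * y - β • z) * y = -(β • (y * z - z * y)) by
      simp only [mul_sub, sub_mul, mul_smul_comm, smul_mul_assoc, mul_assoc]; module] at h
    rwa [map_neg, map_smul, neg_eq_zero] at h
  have r3 : α • π (y * z - z * y) + γ • π (x * z - z * x) = 0 := by
    have h := congrArg₂ (· + ·) (hπ y hy _ hα) (hπ x hx _ hγ)
    simp only [← map_add, add_zero] at h
    rw [show y * (x * x - α • z) - (x * x - α • z) * y +
      (x * (x * y + y * x - γ • z) - (x * y + y * x - γ • z) * x) =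
        -(α • (y * z - z * y) + γ • (x * z - z * x)) by
      simp only [mul_add, add_mul, mul_sub, sub_mul, mul_smul_comm, smul_mul_assoc, mul_assoc]
      module] at h
    rwa [map_neg, map_add, map_smul, map_smul, neg_eq_zero] at h
  have r4 : β • π (x * z - z * x) + γ • π (y * z - z * y) = 0 := by
    have h := congrArg₂ (· + ·) (hπ x hx _ hβ) (hπ y hy _ hγ)
    simp only [← map_add, add_zero] at h
    rw [show x * (y * y - β • z) - (y * y - β • z) * x +
      (y * (x * y + y * x - γ • z) - (x * y + y * x - γ • z) * y) =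
        -(β • (x * z - z * x) + γ • (y * z - z * y)) by
      simp only [mul_add, add_mul, mul_sub, sub_mul, mul_smul_comm, smul_mul_assoc, mul_assoc]
      module] at h
    rwa [map_neg, map_add, map_smul, map_smul, neg_eq_zero] at h
  obtain ⟨hX, hY⟩ := eq_zero_of_relations r1 r2 r3 r4 hne
  refine ⟨x * w - w * x, y * w - w * y, mem_commPow hx hw2, mem_commPow hy hw2,
    (commPow_two_le hf hgenf hJ2).trans (sup_le (Submodule.span_le.mpr ?_) le_sup_right)⟩
  rintro _ ⟨⟨i, j⟩, rfl⟩
  fin_cases i <;> fin_cases j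
  · exact Submodule.mem_sup_right ((Submodule.Quotient.mk_eq_zero _).mp hX)
  · exact Submodule.mem_sup_left (Submodule.subset_span (Set.mem_insert _ _))
  · exact Submodule.mem_sup_right ((Submodule.Quotient.mk_eq_zero _).mp hY)
  · exact Submodule.mem_sup_left (Submodule.subset_span (Set.mem_insert_of_mem _ rfl))

/-- Two elements with independent squares: their mixed commutators suffice. -/
theorem exists_pair_of_squares (hJ : J * J ≤ J)
    (h1 : Module.finrank K J ≤ Module.finrank K ↥(J ^ 2) + 2)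
    (h2 : Module.finrank K ↥(J ^ 2) ≤ Module.finrank K ↥(J ^ 3) + 2)
    {a b : A} (ha : a ∈ J) (hb : b ∈ J) (ha' : a * a ∉ J ^ 3)
    (hb' : b * b ∉ Submodule.span K {a * a} ⊔ J ^ 3) :
    ∃ u v : A, u ∈ commPow J 2 ∧ v ∈ commPow J 2 ∧
      commPow J 2 ≤ Submodule.span K {u, v} ⊔ commPow J 3 := by
  have hsq : ∀ {a : A}, a ∈ J → a * a ∈ J ^ 2 := fun ha => by
    rw [pow_two]; exact Submodule.mul_mem_mul ha ha
  have h21 : J ^ 2 ≤ J := by rw [pow_two]; exact hJ
  have h32 : J ^ 3 ≤ J ^ 2 := pow_anti hJ (by norm_num) (by norm_num)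
  have mL : ∀ {u v : A}, u ∈ J → v ∈ J ^ 2 → u * v ∈ J ^ 3 := fun hu hv => by
    rw [pow_succ']; exact Submodule.mul_mem_mul hu hv
  have mR : ∀ {u v : A}, u ∈ J ^ 2 → v ∈ J → u * v ∈ J ^ 3 := fun hu hv => by
    rw [pow_succ]; exact Submodule.mul_mem_mul hu hv
  have hgen : J ≤ Submodule.span K {a, b} ⊔ J ^ 2 := by
    refine le_span_pair h21 h1 ha hb (fun h => ha' (mL ha h)) fun h => ?_
    obtain ⟨p, hp, w, hw, rfl⟩ := Submodule.mem_sup.mp h
    obtain ⟨s, rfl⟩ := Submodule.mem_span_singleton.mp hp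
    refine hb' (Submodule.mem_sup.mpr ⟨(s * s) • (a * a),
      Submodule.smul_mem _ _ (Submodule.mem_span_singleton_self _),
      s • (a * w) + s • (w * a) + w * w, ?_, ?_⟩)
    · exact add_mem (add_mem (Submodule.smul_mem _ _ (mL ha hw)) (Submodule.smul_mem _ _ (mR hw ha)))
        (mL (h21 hw) hw)
    · simp only [add_mul, mul_add, smul_mul_assoc, mul_smul_comm]
      module
  have hgen' : J ^ 2 ≤ Submodule.span K {a * a, b * b} ⊔ J ^ 3 :=
    le_span_pair h32 h2 (hsq ha) (hsq hb) ha' hb'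
  have hf : ∀ i, ![a, b] i ∈ J := by intro i; fin_cases i <;> assumption
  refine ⟨a * (b * b) - b * b * a, b * (a * a) - a * a * b, mem_commPow ha (hsq hb),
    mem_commPow hb (hsq ha),
    (commPow_two_le hf (g := ![a * a, b * b]) (by rwa [range_pair]) (by rwa [range_pair])).trans
      (sup_le (Submodule.span_le.mpr ?_) le_sup_right)⟩
  rintro _ ⟨⟨i, j⟩, rfl⟩
  fin_cases i <;> fin_cases j
  · show a * (a * a) - a * a * a ∈ _
    simp [mul_assoc]
  · exact Submodule.mem_sup_left (Submodule.subset_span (Set.mem_insert _ _))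
  · exact Submodule.mem_sup_left (Submodule.subset_span (Set.mem_insert_of_mem _ rfl))
  · show b * (b * b) - b * b * b ∈ _
    simp [mul_assoc]

/-- Two commutators span the commutators with the square modulo those with the cube. -/
theorem exists_commPow_pair (hJ : J * J ≤ J) {x y : A} (hx : x ∈ J) (hy : y ∈ J)
    (hgen : J ≤ Submodule.span K {x, y} ⊔ J ^ 2)
    (h1 : Module.finrank K J ≤ Module.finrank K ↥(J ^ 2) + 2)
    (h2 : Module.finrank K ↥(J ^ 2) ≤ Module.finrank K ↥(J ^ 3) + 2)
    (hline : ∀ w ∈ J ^ 2, ¬J ^ 2 ≤ Submodule.span K {w} ⊔ J ^ 3) :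
    ∃ u v : A, u ∈ commPow J 2 ∧ v ∈ commPow J 2 ∧
      commPow J 2 ≤ Submodule.span K {u, v} ⊔ commPow J 3 := by
  by_cases hall : ∀ a ∈ J, a * a ∈ J ^ 3
  · exact exists_pair_of_squares_line hx hy hgen (z := 0)
      (fun a ha => Submodule.mem_sup_right (hall a ha)) hline
  push Not at hall
  obtain ⟨a, ha, ha'⟩ := hall
  by_cases hall : ∀ b ∈ J, b * b ∈ Submodule.span K {a * a} ⊔ J ^ 3
  · exact exists_pair_of_squares_line hx hy hgen hall hline
  push Not at hall
  obtain ⟨b, hb, hb'⟩ := hall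
  exact exists_pair_of_squares hJ h1 h2 ha hb ha' hb'

end CfsgLib.Blocks.RankOneFive
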