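import Cfsg.Agent.Lib.Blocks.RankOneFive.ThreeLine
import Mathlib.LinearAlgebra.Dimension.OrzechProperty

/-!
# The normal form of three layers
-/

set_option autoImplicit false
set_option linter.unusedSectionVars false

namespace CfsgLib.Blocks.RankOneFive.Layers

variable {K : Type*} [Field K] {V W X : Type*} [AddCommGroup V] [Module K V] [AddCommGroup W]
  [Module K W] [AddCommGroup X] [Module K X] [FiniteDimensional K V] [FiniteDimensional K W]
  [FiniteDimensional K X] (D : Layers (K := K) V W X)

/-- With `x x = x y = z x = 0` there is a functional killing the commutators. -/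
theorem false_of_normal (hX : 3 ≤ Module.finrank K X) {x y z : V} (hx : x ≠ 0)
    (hspan : ∀ v, ∃ α β γ : K, v = α • x + β • y + γ • z) (hxx : D.m x x = 0) (hy : D.m x y = 0)
    (hzx : D.m z x = 0) : False := by
  classical
  set e := D.m x z with he
  set u := D.m y x with hu
  set w := D.m y z - D.m z y with hw
  have hwspan : Submodule.span K {u, e, w} = ⊤ := by
    rw [← Submodule.ker_mkQ (Submodule.span K {u, e, w}), LinearMap.ker_eq_top]
    have hm : ∀ s ∈ ({u, e, w} : Set W), (Submodule.span K {u, e, w}).mkQ s = 0 := fun s hs => by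
      rw [Submodule.mkQ_apply, Submodule.Quotient.mk_eq_zero]
      exact Submodule.subset_span hs
    have hu0 := hm u (by simp)
    have he0 := hm e (by simp)
    have hw0 := hm w (by simp)
    refine D.ext_three hspan _ ?_ ?_ hw0
    · rw [map_sub, hy, map_zero, hu0, sub_zero]
    · rw [map_sub, he0, hzx, map_zero, sub_zero]
  have hWdec : ∀ s : W, ∃ α β γ : K, s = α • u + β • e + γ • w := fun s => by
    have h : s ∈ Submodule.span K {u, e, w} := hwspan ▸ Submodule.mem_top
    obtain ⟨α, z', hz', rfl⟩ := Submodule.mem_span_insert.mp h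
    obtain ⟨β, γ, rfl⟩ := Submodule.mem_span_pair.mp hz'
    exact ⟨α, β, γ, (add_assoc _ _ _).symm⟩
  have hru : D.r u x = 0 := by rw [hu, ← D.assoc, hxx, map_zero]
  have hre : D.r e x = 0 := by rw [he, ← D.assoc, hzx, map_zero]
  have hlu : D.l x u = 0 := by rw [hu, D.assoc, hy, map_zero, LinearMap.zero_apply]
  have hle : D.l x e = 0 := by rw [he, D.assoc, hxx, map_zero, LinearMap.zero_apply]
  set Pz := D.l z u with hPz
  set Ey := D.r e y with hEy
  set Q := D.l y e with hQ
  have hrw : D.r w x = -Pz := by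
    rw [hw, map_sub, LinearMap.sub_apply, ← D.assoc, hzx, map_zero, zero_sub, ← D.assoc, ← hu]
  have hlw : D.l x w = -Ey := by
    rw [hw, map_sub, D.assoc, D.assoc, hy, map_zero, LinearMap.zero_apply, zero_sub, ← he]
  have hPz0 : Pz ≠ 0 := fun h => hx (D.right x fun s => by
    obtain ⟨α, β, γ, rfl⟩ := hWdec s
    simp [hru, hre, hrw, h])
  have hEy0 : Ey ≠ 0 := fun h => hx (D.left x fun s => by
    obtain ⟨α, β, γ, rfl⟩ := hWdec s
    simp [hlu, hle, hlw, h])
  have hzy : D.m z y = D.m y z - w := by rw [hw]; abel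
  obtain ⟨γ1, γ2, γ3, hyz⟩ := hWdec (D.m y z)
  obtain ⟨α1, α2, α3, hyy⟩ := hWdec (D.m y y)
  obtain ⟨β1, β2, β3, hzz⟩ := hWdec (D.m z z)
  obtain rfl : γ3 = 0 := by
    have h := D.assoc x y z
    rw [hy, map_zero, LinearMap.zero_apply, hyz, map_add, map_add, map_smul, map_smul, map_smul,
      hlu, hle, hlw, smul_zero, smul_zero, zero_add, zero_add, smul_neg, neg_eq_zero, smul_eq_zero] at h
    exact h.resolve_right hEy0
  obtain rfl : α3 = 0 := by
    have h := D.assoc x y y
    rw [hy, map_zero, LinearMap.zero_apply, hyy, map_add, map_add, map_smul, map_smul, map_smul,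
      hlu, hle, hlw, smul_zero, smul_zero, zero_add, zero_add, smul_neg, neg_eq_zero, smul_eq_zero] at h
    exact h.resolve_right hEy0
  obtain rfl : β3 = 0 := by
    have h := D.assoc z z x
    rw [hzx, map_zero, hzz] at h
    simpa [hru, hre, hrw, hPz0] using h
  simp only [zero_smul, add_zero] at hyz hyy hzz
  have hly : D.l y u = 0 := by
    rw [hu, D.assoc, hyy, map_add, map_smul, map_smul, LinearMap.add_apply, LinearMap.smul_apply,
      LinearMap.smul_apply, hru, hre, smul_zero, smul_zero, add_zero]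
  have hry : D.r u y = 0 := by rw [hu, ← D.assoc, hy, map_zero]
  have hrz : D.r u z = Q := by rw [hu, ← D.assoc, ← he]
  have hlz : D.l z e = 0 := by rw [he, D.assoc, hzx, map_zero, LinearMap.zero_apply]
  have hre' : D.r e z = 0 := by
    rw [he, ← D.assoc, hzz, map_add, map_smul, map_smul, hlu, hle, smul_zero, smul_zero, add_zero]
  have eyzy : D.r (D.m y z) y = γ2 • Ey := by
    rw [hyz]; simp [hry, ← hEy]
  have eyyz : D.r (D.m y y) z = α1 • Q := by
    rw [hyy]; simp [hrz, hre']
  have eyz' : D.l y (D.m y z) = γ2 • Q := by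
    rw [hyz]; simp [hly, ← hQ]
  have ezzy : D.r (D.m z z) y = β2 • Ey := by
    rw [hzz]; simp [hry, ← hEy]
  have ezyz : D.l z (D.m y z) = γ1 • Pz := by
    rw [hyz]; simp [hlz, ← hPz]
  have hyw : D.l y w = γ2 • Q - γ2 • Ey := by
    rw [hw, map_sub, eyz', D.assoc y z y, eyzy]
  have hwy : D.r w y = γ2 • Ey - α1 • Pz := by
    rw [hw, map_sub, LinearMap.sub_apply, eyzy, ← D.assoc z y y, hyy]
    simp [hlz, ← hPz]
  have hzw : D.l z w = γ1 • Pz - β2 • Ey := by
    rw [hw, map_sub, ezyz, D.assoc z z y, ezzy]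
  have hwz : D.r w z = β2 • Q - γ1 • Pz := by
    rw [hw, map_sub, LinearMap.sub_apply, ← D.assoc y z z, hzz, ← D.assoc z y z, ezyz]
    simp [hly, ← hQ]
  have hγ2 : γ2 • Q = α1 • Q := by rw [← eyz', D.assoc, eyyz]
  have hγ1 : γ1 • Q = β2 • Q := by
    have h := D.assoc z y z
    rw [ezyz, hzy, map_sub, LinearMap.sub_apply, hyz, hwz] at h
    simp [hrz, hre'] at h
    linear_combination (norm := module) -h
  have hspanX : ∀ (a : V) (s : W), D.l a s ∈ Submodule.span K (Set.range ![Pz, Ey, Q]) ∧
      D.r s a ∈ Submodule.span K (Set.range ![Pz, Ey, Q]) := by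
    set T := Submodule.span K (Set.range ![Pz, Ey, Q])
    have hP : Pz ∈ T := Submodule.subset_span ⟨0, rfl⟩
    have hE : Ey ∈ T := Submodule.subset_span ⟨1, rfl⟩
    have hQ' : Q ∈ T := Submodule.subset_span ⟨2, rfl⟩
    intro a s
    obtain ⟨a1, a2, a3, rfl⟩ := hspan a
    obtain ⟨s1, s2, s3, rfl⟩ := hWdec s
    simp only [map_add, map_smul, LinearMap.add_apply, LinearMap.smul_apply, hru, hre, hrw, hlu,
      hle, hlw, hly, hry, hrz, hlz, hre', hyw, hwy, hzw, hwz, ← hQ, ← hEy, ← hPz]
    constructor <;> repeat' first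
      | apply Submodule.add_mem | apply Submodule.smul_mem | apply Submodule.sub_mem
      | apply Submodule.neg_mem | exact zero_mem _ | assumption
  have htop : ⊤ ≤ Submodule.span K (Set.range ![Pz, Ey, Q]) := by
    rw [← D.comm_span', Submodule.span_le]
    rintro _ ⟨q, rfl⟩
    exact sub_mem (hspanX _ _).1 (hspanX _ _).2
  have hli3 : LinearIndependent K ![Pz, Ey, Q] := by
    rw [linearIndependent_iff_card_le_finrank_span, Fintype.card_fin]
    have := Submodule.finrank_mono htop
    rw [finrank_top] at this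
    exact hX.trans this
  set bX := Module.Basis.mk hli3 htop
  set ρX : Module.Dual K X := bX.sumCoords with hρX
  have r1 : ρX Pz = 1 :=
    (congrArg ρX (Module.Basis.mk_apply hli3 htop 0).symm).trans (bX.sumCoords_self_apply 0)
  have r2 : ρX Ey = 1 :=
    (congrArg ρX (Module.Basis.mk_apply hli3 htop 1).symm).trans (bX.sumCoords_self_apply 1)
  have r3 : ρX Q = 1 :=
    (congrArg ρX (Module.Basis.mk_apply hli3 htop 2).symm).trans (bX.sumCoords_self_apply 2)
  have hQ0 : Q ≠ 0 := fun h => by rw [h, map_zero] at r3; exact zero_ne_one r3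
  have q2 : γ2 = α1 := smul_left_injective K hQ0 hγ2
  have q1 : γ1 = β2 := smul_left_injective K hQ0 hγ1
  have hkill : ∀ a s, ρX (D.l a s) = ρX (D.r s a) := fun a s => by
    obtain ⟨a1, a2, a3, rfl⟩ := hspan a
    obtain ⟨s1, s2, s3, rfl⟩ := hWdec s
    simp only [map_add, map_smul, LinearMap.add_apply, LinearMap.smul_apply, hru, hre, hrw, hlu,
      hle, hlw, hly, hry, hrz, hlz, hre', hyw, hwy, hzw, hwz, ← hQ, ← hEy, ← hPz, map_sub, map_neg,
      r1, r2, r3, map_zero, smul_eq_mul, q1, q2]
    ring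
  have h0 : ρX = 0 := LinearMap.ext_on D.comm_span' fun v ⟨q, hq⟩ => by
    subst hq
    simp [hkill]
  rw [h0, LinearMap.zero_apply] at r1
  exact zero_ne_one r1

variable [IsAlgClosed K]

/-- A generator with a line of left products gives a contradiction. -/
theorem not_line (hV : Module.finrank K V = 3) (hW : Module.finrank K W = 3)
    (hX : 3 ≤ Module.finrank K X) {x : V} (hx : x ≠ 0)
    (h1 : Module.finrank K (LinearMap.range (D.m x)) ≤ 1) : False := by
  classical
  have hxx := D.sq_zero hx h1
  have hk2 : 2 ≤ Module.finrank K (LinearMap.ker (D.m x)) := by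
    have := LinearMap.finrank_range_add_finrank_ker (D.m x)
    omega
  obtain ⟨y, hy, hyx⟩ : ∃ y ∈ LinearMap.ker (D.m x), y ∉ Submodule.span K {x} := by
    by_contra hc
    push Not at hc
    have := Submodule.finrank_mono (s := LinearMap.ker (D.m x)) hc
    rw [finrank_span_singleton hx] at this
    omega
  rw [LinearMap.mem_ker] at hy
  obtain ⟨z, hz⟩ : ∃ z, D.m x z ≠ 0 := by
    by_contra hc
    push Not at hc
    refine hx (D.left x fun u => LinearMap.congr_fun (D.ext_of_span (f := D.l x) (g := 0) fun a b => ?_) u)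
    rw [D.assoc, hc, map_zero, LinearMap.zero_apply, LinearMap.zero_apply]
  have hli : LinearIndependent K ![x, y, z] := by
    rw [Fintype.linearIndependent_iff]
    intro g hg
    simp only [Fin.sum_univ_three, Matrix.cons_val_zero, Matrix.cons_val_one, Matrix.cons_val] at hg
    have h2 : g 2 = 0 := by
      have h := congrArg (D.m x) hg
      simpa [hxx, hy, hz] using h
    rw [h2, zero_smul, add_zero] at hg
    have hp := LinearIndependent.pair_iff.mp ((LinearIndependent.pair_iff' hx).mpr fun t h =>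
      hyx (Submodule.mem_span_singleton.mpr ⟨t, h⟩)) _ _ hg
    intro i
    fin_cases i
    · exact hp.1
    · exact hp.2
    · exact h2
  set bV := basisOfLinearIndependentOfCardEqFinrank hli (by rw [hV]; rfl) with hbV
  have hdecV : ∀ v, ∃ α β γ : K, v = α • x + β • y + γ • z := fun v => by
    refine ⟨bV.repr v 0, bV.repr v 1, bV.repr v 2, ?_⟩
    conv_lhs => rw [← bV.sum_repr v]
    simp [Fin.sum_univ_three, hbV]
  obtain ⟨t, ht⟩ := D.exists_smul_eq hW hX hV hdecV hxx hy
  refine D.false_of_normal hX (z := z - t • y) hx (fun v => ?_) hxx hy ?_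
  · obtain ⟨α, β, γ, rfl⟩ := hdecV v
    exact ⟨α, β + γ * t, γ, by module⟩
  · rw [map_sub, map_smul, LinearMap.sub_apply, LinearMap.smul_apply, ht, sub_self]

include D in
/-- **No such layers exist.** -/
theorem false_of_three (hV : Module.finrank K V = 3) (hW : Module.finrank K W = 3)
    (hX : 3 ≤ Module.finrank K X) : False := by
  obtain ⟨a, ha, h | h⟩ := D.exists_line hV hW hX
  · exact D.not_line hV hW hX ha h
  · exact D.flip.not_line hV hW hX ha h

end CfsgLib.Blocks.RankOneFive.Layers
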