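import Cfsg.Agent.Lib.Blocks.RankOneSmall.Algebra
import Cfsg.Agent.Lib.Blocks.RankOneFive.Local
import Cfsg.Agent.Lib.Blocks.RankOneFive.ThreeNormal

/-!
# A small nilpotent symmetric algebra has at most two generators in high length

The radical of a local symmetric algebra whose centre has dimension at most five: basic bounds, and
the exclusion of three generators when the Loewy length is at least five.
-/

set_option autoImplicit false
set_option linter.unusedSectionVars false

namespace CfsgLib.Blocks.RankOneFive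

variable {K A : Type*} [Field K] [Ring A] [Algebra K A]

/-- The radical of a local symmetric algebra with small centre. -/
structure LocalData (K A : Type*) [Field K] [Ring A] [Algebra K A] extends TraceData K A where
  mul_le : J * J ≤ J
  top_rank : Module.finrank K ↥(J ^ L) = 1
  top_inj : ∀ s ∈ J ^ L, τ s = 0 → s = 0
  socle : ∀ a ∈ J, (∀ j ∈ J, τ (j * a) = 0) → a ∈ J ^ L
  rank_le : Module.finrank K J ≤ Module.finrank K ↥(commPow J 1) + 4
  one_gen : ∀ x ∈ J, J ≤ Submodule.span K {x} ⊔ J ^ 2 → commPow J 1 = ⊥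

namespace LocalData

variable (D : LocalData K A)

theorem comm_le : commPow D.J 1 ≤ D.J ^ 2 := commPow_le D.J 1

theorem tau_comm {c : A} (hc : c ∈ commPow D.J 1) : D.τ c = 0 := by
  refine (Submodule.span_le (p := LinearMap.ker D.τ)).mpr ?_ hc
  rintro _ ⟨a, _, b, _, rfl⟩
  simp [D.sym a b]

theorem comm_inf : commPow D.J 1 ⊓ D.J ^ D.L = ⊥ :=
  eq_bot_iff.mpr fun c hc => D.top_inj c hc.2 (D.tau_comm hc.1)

theorem pow_eq_bot {n : ℕ} (hn : D.L + 1 ≤ n) : D.J ^ n = ⊥ :=
  eq_bot_iff.mpr ((pow_anti D.mul_le (by omega) hn).trans D.vanish.le)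

theorem three_le (hC : commPow D.J 1 ≠ ⊥) : 3 ≤ D.L := by
  by_contra hL
  refine hC (eq_bot_iff.mpr (D.comm_inf ▸ le_inf le_rfl fun c hc => ?_))
  refine D.socle c (by simpa using pow_anti D.mul_le le_rfl one_le_two (D.comm_le hc)) fun j hj => ?_
  have h : j * c ∈ D.J ^ 3 := by rw [pow_succ']; exact Submodule.mul_mem_mul hj (D.comm_le hc)
  rw [D.pow_eq_bot (show D.L + 1 ≤ 3 by omega), Submodule.mem_bot] at h
  rw [h, map_zero]

theorem exists_top : ∃ s ∈ D.J ^ D.L, D.τ s ≠ 0 := by
  have hne : D.J ^ D.L ≠ ⊥ := fun h => by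
    have := D.top_rank
    rw [h, finrank_bot] at this
    omega
  obtain ⟨s, hs, hs0⟩ := Submodule.exists_mem_ne_zero_of_ne_bot hne
  exact ⟨s, hs, fun h => hs0 (D.top_inj s hs h)⟩

variable [FiniteDimensional K A]

theorem finrank_comm_add (hL : 2 ≤ D.L) :
    Module.finrank K ↥(commPow D.J 1 ⊔ D.J ^ D.L) = Module.finrank K ↥(commPow D.J 1) + 1 ∧
      commPow D.J 1 ⊔ D.J ^ D.L ≤ D.J ^ 2 := by
  refine ⟨?_, sup_le D.comm_le (pow_anti D.mul_le (by norm_num) hL)⟩
  have h := Submodule.finrank_sup_add_finrank_inf_eq (commPow D.J 1) (D.J ^ D.L)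
  rw [D.comm_inf, finrank_bot, add_zero, D.top_rank] at h
  exact h

/-- The power next to the socle is small. -/
theorem finrank_pow_le {ι : Type*} [Fintype ι] {f : ι → A}
    (hgen : D.J ≤ Submodule.span K (Set.range f) ⊔ D.J ^ 2) {n : ℕ} (hn : 1 ≤ n)
    (hL : D.L ≤ n + 1) : Module.finrank K ↥(D.J ^ n) ≤ Fintype.card ι + 1 := by
  let Φ : ↥(D.J ^ n) →ₗ[K] ι → K :=
    LinearMap.pi fun i => (D.τ.comp (LinearMap.mulLeft K (f i))).comp (D.J ^ n).subtype
  have hker : Module.finrank K (LinearMap.ker Φ) ≤ 1 := by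
    have hmem : ∀ u : LinearMap.ker Φ, ((u : ↥(D.J ^ n)) : A) ∈ D.J ^ D.L := by
      rintro ⟨⟨u, hu⟩, h0⟩
      refine D.socle u (by simpa using pow_anti D.mul_le le_rfl hn hu) fun j hj => ?_
      have hle : D.J ≤ (LinearMap.ker D.τ).comap (LinearMap.mulRight K u) := by
        refine hgen.trans (sup_le (Submodule.span_le.mpr ?_) fun w hw => ?_)
        · rintro _ ⟨i, rfl⟩
          exact congrFun h0 i
        · have h : w * u ∈ D.J ^ (2 + n) := D.mul_mem_pow rfl hw hu
          rw [D.pow_eq_bot (by omega), Submodule.mem_bot] at h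
          show D.τ (w * u) = 0
          rw [h, map_zero]
      exact hle hj
    refine le_trans ?_ D.top_rank.le
    exact LinearMap.finrank_le_finrank_of_injective (f := LinearMap.codRestrict (D.J ^ D.L)
      ((D.J ^ n).subtype.comp (LinearMap.ker Φ).subtype) hmem) fun a b h =>
        Subtype.ext (Subtype.ext (congrArg (fun z : ↥(D.J ^ D.L) => (z : A)) h))
  have h1 := Φ.finrank_range_add_finrank_ker
  have h2 := (Submodule.finrank_le (LinearMap.range Φ)).trans (Module.finrank_pi K).le
  omega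

theorem exists_gens {W V : Submodule K A} (hWV : W ≤ V) {n : ℕ}
    (h : Module.finrank K V ≤ Module.finrank K W + n) :
    ∃ f : Fin n → A, (∀ i, f i ∈ V) ∧ V ≤ Submodule.span K (Set.range f) ⊔ W := by
  induction n generalizing W with
  | zero => exact ⟨Fin.elim0, fun i => i.elim0,
      (Submodule.eq_of_le_of_finrank_le hWV (by simpa using h)).ge.trans le_sup_right⟩
  | succ n ih =>
    obtain ⟨x, hx, hxV, hx1⟩ := RankOneSmall.exists_extend hWV h
    obtain ⟨f, hf, hfV⟩ := ih hxV hx1
    refine ⟨Fin.cons x f, Fin.cases hx hf, hfV.trans ?_⟩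
    rw [Fin.range_cons, Submodule.span_insert]
    exact sup_le (le_sup_right.trans le_sup_left)
      (sup_le ((le_sup_left.trans le_sup_left)) le_sup_right)

theorem commLayer_eq_top {k n : ℕ} (h : 1 + k = n) (hn : n ≤ D.L)
    (hJ : D.J ^ n ≤ commPow D.J k ⊔ D.J ^ (n + 1)) : D.commLayer h hn = ⊤ := by
  refine Submodule.eq_top_iff'.mpr fun u => ?_
  obtain ⟨⟨j, hj⟩, rfl⟩ := D.cls_surj n u
  obtain ⟨e, he, w, hw, hew⟩ := Submodule.mem_sup.mp (hJ hj)
  obtain ⟨he', hcls⟩ := D.cls_mem_commLayer h hn e he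
  rwa [D.cls_eq_of_sub_mem hn (v := ⟨e, he'⟩) (by
    show j - e ∈ _
    rw [← hew, add_sub_cancel_left]; exact hw)]

theorem finrank_one_le {ι : Type*} [Fintype ι] {f : ι → A} (hf : ∀ i, f i ∈ D.J)
    (hgen : D.J ≤ Submodule.span K (Set.range f) ⊔ D.J ^ 2) (hL : 1 ≤ D.L) :
    Module.finrank K (D.G 1) ≤ Fintype.card ι :=
  D.finrank_le_of_span (fun i => ⟨f i, by rw [pow_one]; exact hf i⟩) fun u =>
    D.cls_mem_span hL _ (hgen (by simpa using u.2))

/-- If the square is spanned by commutators modulo the cube, there are three generators at least,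
modulo the null elements. -/
theorem three_le_finrank_one (hL : 3 ≤ D.L) (hJ : D.J ^ 2 ≤ commPow D.J 1 ⊔ D.J ^ 3) :
    3 ≤ Module.finrank K (D.G 1) := by
  by_contra hlt
  have hspan := D.commLayer_eq_top (show 1 + 1 = 2 from rfl) (show 2 ≤ D.L by omega) hJ
  have h1 := finrank_le_of_comm_span (D.mulG (show 1 + 1 = 2 from rfl) (show 2 ≤ D.L by omega))
    hspan (by omega)
  have h2 := D.layer_large (k := 1) hL
  have h3 := D.finrank_pos (k := 2) (by omega) D.exists_top
  change min 3 (Module.finrank K (D.G 1)) ≤ Module.finrank K (D.G 2) at h2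
  omega

variable [IsAlgClosed K]

/-- Three generators force length at most three. -/
theorem false_of_gens_three (hL : 4 ≤ D.L) {f : Fin 3 → A} (hf : ∀ i, f i ∈ D.J)
    (hgen : D.J ≤ Submodule.span K (Set.range f) ⊔ D.J ^ 2)
    (hsq : D.J ^ 2 ≤ commPow D.J 1 ⊔ D.J ^ D.L) : False := by
  have hJ2 : D.J ^ 2 ≤ commPow D.J 1 ⊔ D.J ^ 3 :=
    hsq.trans (sup_le_sup le_rfl (pow_anti D.mul_le (by norm_num) (by omega)))
  have hV : Module.finrank K (D.G 1) = 3 := le_antisymm
    ((D.finrank_one_le hf hgen (by omega)).trans (by simp))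
    (D.three_le_finrank_one (by omega) hJ2)
  let g : Fin 3 → A := ![f 0 * f 1 - f 1 * f 0, f 0 * f 2 - f 2 * f 0, f 1 * f 2 - f 2 * f 1]
  have hgC : ∀ i, g i ∈ commPow D.J 1 := by
    intro i
    fin_cases i <;> exact mem_commPow (hf _) (by rw [pow_one]; exact hf _)
  have hC : commPow D.J 1 ≤ Submodule.span K (Set.range g) ⊔ commPow D.J 2 := by
    refine (commPow_one_le hf hgen).trans (sup_le_sup_right (Submodule.span_le.mpr ?_) _)
    have hm : ∀ i, g i ∈ Submodule.span K (Set.range g) := fun i =>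
      Submodule.subset_span ⟨i, rfl⟩
    rintro _ ⟨⟨i, j⟩, rfl⟩
    have hm' : ∀ u v, u - v = g 0 ∨ u - v = g 1 ∨ u - v = g 2 →
        v - u ∈ Submodule.span K (Set.range g) := fun u v h => by
      rw [← neg_sub]
      rcases h with h | h | h <;> rw [h] <;> exact neg_mem (hm _)
    fin_cases i <;> fin_cases j
    all_goals
      first
        | (simp; done)
        | exact hm 0
        | exact hm 1
        | exact hm 2
        | exact hm' _ _ (Or.inl rfl)
        | exact hm' _ _ (Or.inr (Or.inl rfl))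
        | exact hm' _ _ (Or.inr (Or.inr rfl))
  let g' : Fin 3 → ↥(D.J ^ 2) := fun i => ⟨g i, D.comm_le (hgC i)⟩
  have hsq' : D.J ^ 2 ≤ Submodule.span K (Set.range g) ⊔ D.J ^ 3 :=
    hJ2.trans (sup_le (hC.trans (sup_le le_sup_left ((commPow_le D.J 2).trans le_sup_right)))
      le_sup_right)
  have hspan : ⊤ ≤ Submodule.span K (Set.range fun i => D.cls 2 (g' i)) := fun u _ => by
    obtain ⟨a, rfl⟩ := D.cls_surj 2 u
    exact D.cls_mem_span (by omega) g' (hsq' a.2)
  have hW : Module.finrank K (D.G 2) = 3 := by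
    refine le_antisymm ?_ ?_
    · exact (D.finrank_le_of_span g' fun u => hspan Submodule.mem_top).trans (by simp)
    · have h := D.layer_large (k := 1) (show 1 + 2 ≤ D.L by omega)
      change min 3 (Module.finrank K (D.G 1)) ≤ Module.finrank K (D.G 2) at h
      omega
  have hli : LinearIndependent K fun i => D.cls 2 (g' i) :=
    linearIndependent_of_top_le_span_of_card_eq_finrank hspan (by rw [hW]; simp)
  have hJ3 : D.J ^ 3 ≤ commPow D.J 2 ⊔ D.J ^ (3 + 1) := by
    intro j hj
    obtain ⟨c, hc, s, hs, hcs⟩ := Submodule.mem_sup.mp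
      (hsq (pow_anti D.mul_le (by norm_num) (by norm_num) hj))
    obtain ⟨v, hv, e, he, hve⟩ := Submodule.mem_sup.mp (hC hc)
    obtain ⟨a, ha⟩ := (Submodule.mem_span_range_iff_exists_fun K).mp hv
    have hs4 : s ∈ D.J ^ (3 + 1) := pow_anti D.mul_le (by norm_num) (by omega) hs
    have hv3 : v ∈ D.J ^ 3 := by
      rw [show v = j - e - s by rw [← hcs, ← hve]; abel]
      exact sub_mem (sub_mem hj (commPow_le D.J 2 he))
        (pow_anti D.mul_le (by norm_num) (by norm_num) hs4)
    have h0 : ∑ i, a i • D.cls 2 (g' i) = 0 := by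
      simp only [← map_smul]
      rw [← map_sum]
      refine D.cls_eq_zero_of_mem (by omega) ?_
      simpa [g', ha] using hv3
    have hv0 : v = 0 := by
      rw [← ha]
      simp [fun i => Fintype.linearIndependent_iff.mp hli a h0 i]
    rw [← hcs, ← hve, hv0, zero_add]
    exact Submodule.add_mem_sup he hs4
  refine Layers.false_of_three
    { m := D.mulG (show 1 + 1 = 2 from rfl) (by omega)
      l := D.mulG (show 1 + 2 = 3 from rfl) (by omega)
      r := D.mulG (show 2 + 1 = 3 from rfl) (by omega)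
      assoc := fun a b c => D.mulG_assoc _ _ _ _ _ _ _ a b c
      comm_span := D.commLayer_eq_top rfl (by omega) hJ2
      comm_span' := D.commLayer_eq_top rfl (by omega) hJ3
      left := fun a h => D.left_ne _ _ a h
      right := fun c h => D.right_ne _ _ c h } hV hW ?_
  have h := D.layer_large (k := 2) (show 2 + 2 ≤ D.L by omega)
  change min 3 (Module.finrank K (D.G 1)) ≤ Module.finrank K (D.G 3) at h
  omega

end LocalData

end CfsgLib.Blocks.RankOneFive
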