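import Mathlib.LinearAlgebra.Dual.Lemmas
import Mathlib.LinearAlgebra.FiniteDimensional.Lemmas
import Mathlib.Tactic.Module
import Mathlib.Tactic.LinearCombination
import Mathlib.FieldTheory.IsAlgClosed.Basic
import Mathlib.LinearAlgebra.Dimension.OrzechProperty

/-!
# Two generators: the third and fourth layers

Four layers of a graded algebra on two generators, with the third and fourth spanned by commutators,
cannot all be at least two-dimensional.
-/

set_option autoImplicit false
set_option linter.unusedSectionVars false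

namespace CfsgLib.Blocks.RankOneFive

variable {K : Type*} [Field K]

/-- Four layers, spanned by products, the last two by commutators with the generators. -/
structure FourLayers (V W X Y : Type*) [AddCommGroup V] [Module K V] [AddCommGroup W] [Module K W]
    [AddCommGroup X] [Module K X] [AddCommGroup Y] [Module K Y] where
  m : V →ₗ[K] V →ₗ[K] W
  l : V →ₗ[K] W →ₗ[K] X
  r : W →ₗ[K] V →ₗ[K] X
  l' : V →ₗ[K] X →ₗ[K] Y
  r' : X →ₗ[K] V →ₗ[K] Y
  assoc : ∀ a b c, l a (m b c) = r (m a b) c
  assoc' : ∀ a u c, l' a (r u c) = r' (l a u) c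
  prod_span : Submodule.span K (Set.range fun q : V × V => m q.1 q.2) = ⊤
  comm_span : Submodule.span K (Set.range fun q : V × W => l q.1 q.2 - r q.2 q.1) = ⊤
  comm_span' : Submodule.span K (Set.range fun q : V × X => l' q.1 q.2 - r' q.2 q.1) = ⊤
  sigma : Module.Dual K W
  sigma_ne : sigma ≠ 0
  sigma_symm : ∀ a b, sigma (m a b) = sigma (m b a)

variable {V W X Y : Type*} [AddCommGroup V] [Module K V] [AddCommGroup W] [Module K W]
  [AddCommGroup X] [Module K X] [AddCommGroup Y] [Module K Y]

namespace FourLayers

variable [FiniteDimensional K V] [FiniteDimensional K W] [FiniteDimensional K X]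
  [FiniteDimensional K Y] (D : FourLayers (K := K) V W X Y)

/-- A space spanned by the multiples of one vector has dimension at most one. -/
theorem finrank_le_one_of_span {Z : Type*} [AddCommGroup Z] [Module K Z] [FiniteDimensional K Z]
    {ι : Type*} (f : ι → Z) (hf : Submodule.span K (Set.range f) = ⊤) (z : Z)
    (h : ∀ i, f i ∈ Submodule.span K {z}) : Module.finrank K Z ≤ 1 := by
  classical
  have htop : Submodule.span K {z} = ⊤ := eq_top_iff.mpr (hf ▸ Submodule.span_le.mpr
    (Set.range_subset_iff.mpr h))
  rw [← finrank_top K Z, ← htop]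
  by_cases hz : z = 0
  · rw [hz, Submodule.span_zero_singleton, finrank_bot]; omega
  · rw [finrank_span_singleton hz]

theorem sigma_prod_ne : ∃ a b, D.sigma (D.m a b) ≠ 0 := by
  by_contra hc
  push Not at hc
  refine D.sigma_ne (LinearMap.ext_on D.prod_span fun w ⟨q, hq⟩ => ?_)
  subst hq
  simp [hc]

variable {x y : V} (hspan : ∀ v, ∃ α β : K, v = α • x + β • y)
include hspan

theorem comm_mem {T : Submodule K X} {p : W} (hW : ∀ w, ∃ s t : K, w = s • p + t • (D.m x y - D.m y x))
    (h1 : D.l x p - D.r p x ∈ T) (h2 : D.l y p - D.r p y ∈ T)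
    (h3 : D.l x (D.m x y - D.m y x) - D.r (D.m x y - D.m y x) x ∈ T)
    (h4 : D.l y (D.m x y - D.m y x) - D.r (D.m x y - D.m y x) y ∈ T) : T = ⊤ := by
  rw [eq_top_iff, ← D.comm_span, Submodule.span_le]
  rintro _ ⟨⟨a, w⟩, rfl⟩
  obtain ⟨a₁, a₂, rfl⟩ := hspan a
  obtain ⟨s, t, rfl⟩ := hW w
  have : D.l (a₁ • x + a₂ • y) (s • p + t • (D.m x y - D.m y x)) -
      D.r (s • p + t • (D.m x y - D.m y x)) (a₁ • x + a₂ • y) =
      (a₁ * s) • (D.l x p - D.r p x) + (a₂ * s) • (D.l y p - D.r p y) +
        (a₁ * t) • (D.l x (D.m x y - D.m y x) - D.r (D.m x y - D.m y x) x) +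
        (a₂ * t) • (D.l y (D.m x y - D.m y x) - D.r (D.m x y - D.m y x) y) := by
    simp only [map_add, map_smul, LinearMap.add_apply, LinearMap.smul_apply]
    module
  show _ - _ ∈ T
  rw [this]
  exact add_mem (add_mem (add_mem (T.smul_mem _ h1) (T.smul_mem _ h2)) (T.smul_mem _ h3))
    (T.smul_mem _ h4)

theorem comm_mem' {T : Submodule K Y} {u v : X} (hX : ∀ z, ∃ s t : K, z = s • u + t • v)
    (h1 : D.l' x u - D.r' u x ∈ T) (h2 : D.l' y u - D.r' u y ∈ T)
    (h3 : D.l' x v - D.r' v x ∈ T) (h4 : D.l' y v - D.r' v y ∈ T) : T = ⊤ := by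
  rw [eq_top_iff, ← D.comm_span', Submodule.span_le]
  rintro _ ⟨⟨a, z⟩, rfl⟩
  obtain ⟨a₁, a₂, rfl⟩ := hspan a
  obtain ⟨s, t, rfl⟩ := hX z
  have : D.l' (a₁ • x + a₂ • y) (s • u + t • v) - D.r' (s • u + t • v) (a₁ • x + a₂ • y) =
      (a₁ * s) • (D.l' x u - D.r' u x) + (a₂ * s) • (D.l' y u - D.r' u y) +
        (a₁ * t) • (D.l' x v - D.r' v x) + (a₂ * t) • (D.l' y v - D.r' v y) := by
    simp only [map_add, map_smul, LinearMap.add_apply, LinearMap.smul_apply]
    module
  show _ - _ ∈ T
  rw [this]
  exact add_mem (add_mem (add_mem (T.smul_mem _ h1) (T.smul_mem _ h2)) (T.smul_mem _ h3))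
    (T.smul_mem _ h4)

theorem exists_basis_W (hW : Module.finrank K W ≤ 2) (hX : 0 < Module.finrank K X) {p : W}
    (hp : D.sigma p ≠ 0) :
    ∀ w, ∃ t : K, w = (D.sigma w / D.sigma p) • p + t • (D.m x y - D.m y x) := by
  set c := D.m x y - D.m y x with hc
  have hcomm : ∀ a b, D.m a b - D.m b a ∈ Submodule.span K {c} := fun a b => by
    obtain ⟨a₁, a₂, rfl⟩ := hspan a
    obtain ⟨b₁, b₂, rfl⟩ := hspan b
    refine Submodule.mem_span_singleton.mpr ⟨a₁ * b₂ - a₂ * b₁, ?_⟩
    simp only [hc, map_add, map_smul, LinearMap.add_apply, LinearMap.smul_apply]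
    module
  have hc0 : c ≠ 0 := fun h0 => by
    have hsym : ∀ a b, D.m a b = D.m b a := fun a b => by
      have h := hcomm a b
      rwa [h0, Submodule.span_zero_singleton, Submodule.mem_bot, sub_eq_zero] at h
    have hz : ∀ a, D.l a = D.r.flip a := fun a => LinearMap.ext_on D.prod_span fun w ⟨q, hq⟩ => by
      subst hq
      obtain ⟨b, c⟩ := q
      show D.l a (D.m b c) = D.r (D.m b c) a
      rw [D.assoc, hsym a b, ← D.assoc, hsym a c, D.assoc]
    have h := finrank_le_one_of_span _ D.comm_span 0 fun q => by simp [hz q.1]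
    have htop : (⊤ : Submodule K X) ≤ ⊥ := by
      rw [← D.comm_span, Submodule.span_le]
      rintro _ ⟨q, rfl⟩
      simp [hz q.1]
    have := Submodule.finrank_mono htop
    rw [finrank_top, finrank_bot] at this
    omega
  have hσc : D.sigma c = 0 := by rw [hc, map_sub, D.sigma_symm, sub_self]
  have hli : LinearIndependent K ![p, c] := by
    rw [LinearIndependent.pair_iff]
    intro s t h
    have hs : s = 0 := by
      have h1 := congrArg D.sigma h
      simpa [hσc, hp] using h1
    subst hs
    simpa [hc0] using h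
  have htop := hli.span_eq_top_of_card_eq_finrank (le_antisymm hli.fintype_card_le_finrank hW)
  intro w
  obtain ⟨co, hco⟩ := (Submodule.mem_span_range_iff_exists_fun K).mp
    (htop ▸ Submodule.mem_top : w ∈ Submodule.span K (Set.range ![p, c]))
  simp only [Fin.sum_univ_two, Matrix.cons_val_zero, Matrix.cons_val_one] at hco
  refine ⟨co 1, ?_⟩
  rw [← hco, map_add, map_smul, map_smul, hσc, smul_zero, add_zero, smul_eq_mul,
    mul_div_assoc, div_self hp, mul_one]

/-- The case of a form of rank one. -/
theorem false_of_rank_one (hW : Module.finrank K W ≤ 2) (hX : 2 ≤ Module.finrank K X)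
    (hxx : D.sigma (D.m x x) ≠ 0) (hxy : D.sigma (D.m x y) = 0) (hyy : D.sigma (D.m y y) = 0) :
    False := by
  set c := D.m x y - D.m y x with hc
  have hdec := D.exists_basis_W hspan hW (by omega) hxx
  obtain ⟨β, hβ⟩ := hdec (D.m y y)
  obtain ⟨γ, hγ⟩ := hdec (D.m x y)
  rw [hyy, zero_div, zero_smul, zero_add, ← hc] at hβ
  rw [hxy, zero_div, zero_smul, zero_add, ← hc] at hγ
  have hyx : D.m y x = (γ - 1) • c := by rw [sub_smul, one_smul, ← hγ, hc]; abel
  set xc := D.l x c
  set cx := D.r c x
  set yc := D.l y c
  set cy := D.r c y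
  have e1 : γ • cx = (γ - 1) • xc := by
    have h := D.assoc x y x
    rw [hγ, hyx, map_smul, map_smul, LinearMap.smul_apply] at h
    exact h.symm
  have e2 : γ • yc = (γ - 1) • cy := by
    have h := D.assoc y x y
    rwa [hγ, hyx, map_smul, map_smul, LinearMap.smul_apply] at h
  have e3 : γ • cy = β • xc := by
    have h := D.assoc x y y
    rw [hγ, hβ, map_smul, map_smul, LinearMap.smul_apply] at h
    exact h.symm
  have e4 : β • cx = (γ - 1) • yc := by
    have h := D.assoc y y x
    rw [hyx, hβ, map_smul, map_smul, LinearMap.smul_apply] at h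
    exact h.symm
  obtain ⟨z, hz1, hz2, hz3, hz4⟩ : ∃ z : X, xc ∈ Submodule.span K {z} ∧ cx ∈ Submodule.span K {z} ∧
      yc ∈ Submodule.span K {z} ∧ cy ∈ Submodule.span K {z} := by
    by_cases hg : γ = 0
    · subst hg
      have h1 : xc = 0 := by simpa [eq_comm] using e1
      have h2 : cy = 0 := by simpa [eq_comm] using e2
      have h3 : yc = -(β • cx) := by rw [e4]; simp
      exact ⟨cx, by simp [h1], Submodule.mem_span_singleton_self _,
        h3 ▸ neg_mem (Submodule.smul_mem _ _ (Submodule.mem_span_singleton_self _)), by simp [h2]⟩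
    · have hcx : cx = γ⁻¹ • (γ - 1) • xc := by rw [← e1, inv_smul_smul₀ hg]
      have hcy : cy = γ⁻¹ • β • xc := by rw [← e3, inv_smul_smul₀ hg]
      have hyc : yc = γ⁻¹ • (γ - 1) • γ⁻¹ • β • xc := by rw [← hcy, ← e2, inv_smul_smul₀ hg]
      refine ⟨xc, Submodule.mem_span_singleton_self _, ?_, ?_, ?_⟩
      · rw [hcx]
        exact Submodule.smul_mem _ _ (Submodule.smul_mem _ _ (Submodule.mem_span_singleton_self _))
      · rw [hyc]
        exact Submodule.smul_mem _ _ (Submodule.smul_mem _ _ (Submodule.smul_mem _ _
          (Submodule.smul_mem _ _ (Submodule.mem_span_singleton_self _))))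
      · rw [hcy]
        exact Submodule.smul_mem _ _ (Submodule.smul_mem _ _ (Submodule.mem_span_singleton_self _))
  have htop := D.comm_mem hspan (T := Submodule.span K {z}) (p := D.m x x)
    (fun w => let ⟨t, ht⟩ := hdec w; ⟨_, t, ht⟩)
    (by rw [D.assoc, sub_self]; exact zero_mem _)
    (by
      rw [D.assoc y x x, ← D.assoc x x y, hyx, hγ, map_smul, map_smul, LinearMap.smul_apply]
      exact sub_mem (Submodule.smul_mem _ _ hz2) (Submodule.smul_mem _ _ hz1))
    (sub_mem hz1 hz2) (sub_mem hz3 hz4)
  have h := finrank_le_one_of_span (fun v : X => v) (by simp) z fun v => htop ▸ Submodule.mem_top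
  omega

/-- The case of an isotropic generator paired with another. -/
theorem false_of_isotropic (hW : Module.finrank K W ≤ 2) (hX : 2 ≤ Module.finrank K X)
    (hY : 2 ≤ Module.finrank K Y) (hxx : D.sigma (D.m x x) = 0) (hxy : D.sigma (D.m x y) = 1) :
    False := by
  set c := D.m x y - D.m y x with hc
  set p := D.m x y with hp
  have hp0 : D.sigma p ≠ 0 := by rw [hxy]; exact one_ne_zero
  have hdec := D.exists_basis_W hspan hW (by omega) hp0
  simp only [hxy, div_one] at hdec
  obtain ⟨α, hα⟩ := hdec (D.m x x)
  obtain ⟨β, hβ⟩ := hdec (D.m y y)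
  set δ := D.sigma (D.m y y)
  rw [hxx, zero_smul, zero_add, ← hc] at hα
  rw [← hc] at hβ
  have hyx : D.m y x = p - c := by rw [hc]; abel
  set u := D.l x c
  set u' := D.r c x
  set v := D.r c y
  set v' := D.l y c
  set a := D.r p x with ha
  set b := D.l y p with hb
  have f1 : D.l x p = a + u := by
    have h := D.assoc x y x
    rw [hyx, ← hp, map_sub] at h
    exact eq_add_of_sub_eq h
  have f2 : D.r p y = b + v := by
    have h := D.assoc y x y
    rw [hyx, ← hp, map_sub, LinearMap.sub_apply] at h
    exact eq_add_of_sub_eq h.symm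
  have g1 : a + u = α • v := by
    have h := D.assoc x x y
    rwa [← hp, f1, hα, map_smul, LinearMap.smul_apply] at h
  have g2 : a - u' = α • v' := by
    have h := D.assoc y x x
    rw [hα, map_smul, hyx, map_sub D.r p c, LinearMap.sub_apply] at h
    exact h.symm
  have g3 : δ • (a + u) + β • u = b + v := by
    have h := D.assoc x y y
    rwa [hβ, map_add, map_smul, map_smul, f1, ← hp, f2] at h
  have g4 : δ • a + β • u' = b - v' := by
    have h := D.assoc y y x
    rw [hβ, map_add, map_smul, map_smul, LinearMap.add_apply, LinearMap.smul_apply,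
      LinearMap.smul_apply, hyx, map_sub] at h
    exact h.symm
  have g5 : α • u = α • u' := by
    have h := D.assoc x x x
    rwa [hα, map_smul, map_smul, LinearMap.smul_apply] at h
  have g6 : δ • b + β • v' = δ • (b + v) + β • v := by
    have h := D.assoc y y y
    rwa [hβ, map_add, map_smul, map_smul, map_add, map_smul, map_smul, LinearMap.add_apply,
      LinearMap.smul_apply, LinearMap.smul_apply, f2] at h
  have hv' : v' = δ • u - v + β • (u - u') := by linear_combination (norm := module) g4 - g3
  have hXdec : ∀ z w : X, Submodule.span K {z, w} = ⊤ →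
      (∀ t, ∃ s t' : K, t = s • z + t' • w) ∧ ∀ s t : K, s • z + t • w = 0 → s = 0 ∧ t = 0 := by
    intro z w htop
    refine ⟨fun t => ?_, fun s t h => ?_⟩
    · obtain ⟨s, t', rfl⟩ := Submodule.mem_span_pair.mp
        (htop ▸ Submodule.mem_top : t ∈ Submodule.span K {z, w})
      exact ⟨s, t', rfl⟩
    · have hli : LinearIndependent K ![z, w] := by
        rw [linearIndependent_iff_card_le_finrank_span, Fintype.card_fin,
          show Set.range ![z, w] = {z, w} by simp [Set.pair_comm]]
        rw [Set.finrank, htop, finrank_top]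
        exact hX
      exact LinearIndependent.pair_iff.mp hli s t h
  have hWall : ∀ w, ∃ s t : K, w = s • p + t • c := fun w => let ⟨t, ht⟩ := hdec w; ⟨_, t, ht⟩
  by_cases hα0 : α = 0
  · subst hα0
    have hu : u = -a := by linear_combination (norm := module) g1
    have hu' : u' = a := by linear_combination (norm := module) -g2
    have hv2 : v' = -(δ + 2 * β) • a - v := by rw [hv', hu, hu']; module
    have htop : Submodule.span K {a, v} = ⊤ := by
      have ma : a ∈ Submodule.span K {a, v} := Submodule.subset_span (by simp)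
      have mv : v ∈ Submodule.span K {a, v} := Submodule.subset_span (by simp)
      refine D.comm_mem hspan hWall ?_ ?_ ?_ ?_
      · rw [f1, ← ha, hu]; exact sub_mem (add_mem ma (neg_mem ma)) ma
      · rw [f2, ← hb]; exact sub_mem (Submodule.sub_mem _ (add_mem (zero_mem _) (zero_mem _)) mv) (zero_mem _)
          |> fun h => by simpa using h
      · show u - u' ∈ _; rw [hu, hu']; exact sub_mem (neg_mem ma) ma
      · show v' - v ∈ _; rw [hv2]; exact sub_mem (sub_mem (Submodule.smul_mem _ _ ma) mv) mv
    obtain ⟨hX', hind⟩ := hXdec a v htop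
    have e : δ + 2 * β = 0 := by
      have h := hind (β * (δ + 2 * β)) (δ + 2 * β) (by
        linear_combination (norm := skip) -g6
        rw [hv2]; module)
      exact h.2
    have hb' : b = -(β • a) - v := by
      linear_combination (norm := skip) -g3
      rw [hu]; module
    have hA : D.r (D.m y y) x = -(β • a) := by
      rw [hβ, map_add, map_smul, map_smul, LinearMap.add_apply, LinearMap.smul_apply,
        LinearMap.smul_apply]
      show δ • a + β • u' = _
      rw [hu', eq_neg_of_add_eq_zero_left e]
      module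
    have hB : D.r (D.m x y) y = -(β • a) := by
      rw [← hp, f2, hb']; module
    -- the fourth layer is the line of `y a - a y`
    have ya : ∀ t : K, t • (D.l' y a - D.r' a y) ∈ Submodule.span K {D.l' y a - D.r' a y} := fun t =>
      Submodule.smul_mem _ _ (Submodule.mem_span_singleton_self _)
    have la : a = D.l x (D.m y x) := by rw [D.assoc]
    have c1 : D.l' x a - D.r' a x = 0 := by
      have h1 : D.l' x a = 0 := by
        rw [ha, D.assoc', f1, hu, add_neg_cancel, map_zero, LinearMap.zero_apply]
      have h2 : D.r' a x = 0 := by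
        rw [la, ← D.assoc', ← D.assoc, hα, zero_smul, map_zero, map_zero]
      rw [h1, h2, sub_zero]
    have lb : b = D.r (D.m y x) y := by rw [← D.assoc]
    have c2 : D.l' x b - D.r' b x = -(D.l' y a - D.r' a y) := by
      rw [lb, D.assoc', ← la, ← lb, hb, ← D.assoc', ← ha]; abel
    have c3 : D.l' y b - D.r' b y = β • (D.l' y a - D.r' a y) := by
      have h1 : D.l' y b = -(β • D.r' a y) := by
        rw [lb, D.assoc', D.assoc, hA, map_neg, map_smul, LinearMap.neg_apply, LinearMap.smul_apply]
      have h2 : D.r' b y = -(β • D.l' y a) := by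
        rw [hb, ← D.assoc', hB, map_neg, map_smul]
      rw [h1, h2]; module
    have hv3 : v = -(β • a) - b := by linear_combination (norm := module) hb'
    have htop' := D.comm_mem' hspan (T := Submodule.span K {D.l' y a - D.r' a y}) hX'
      (by rw [c1]; exact zero_mem _) (Submodule.mem_span_singleton_self _)
      (by
        rw [show D.l' x v - D.r' v x = (-β) • (D.l' x a - D.r' a x) - (D.l' x b - D.r' b x) by
          rw [hv3]; simp only [map_sub, map_neg, map_smul, LinearMap.sub_apply, LinearMap.neg_apply,
            LinearMap.smul_apply]; module, c1, c2, smul_zero, zero_sub, neg_neg]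
        exact Submodule.mem_span_singleton_self _)
      (by
        rw [show D.l' y v - D.r' v y = (-β) • (D.l' y a - D.r' a y) - (D.l' y b - D.r' b y) by
          rw [hv3]; simp only [map_sub, map_neg, map_smul, LinearMap.sub_apply, LinearMap.neg_apply,
            LinearMap.smul_apply]; module, c3]
        exact sub_mem (ya _) (ya _))
    have h := finrank_le_one_of_span (fun z : Y => z) (by simp) _ fun z => htop' ▸ Submodule.mem_top
    omega
  · have huu : u' = u := (smul_right_injective X hα0 g5).symm
    have ha' : a = α • v - u := by linear_combination (norm := module) g1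
    have hv2 : v' = δ • u - v := by rw [hv', huu]; module
    have htop : Submodule.span K {u, v} = ⊤ := by
      have mu : u ∈ Submodule.span K {u, v} := Submodule.subset_span (by simp)
      have mv : v ∈ Submodule.span K {u, v} := Submodule.subset_span (by simp)
      refine D.comm_mem hspan hWall ?_ ?_ ?_ ?_
      · rw [f1, ← ha, add_sub_cancel_left]; exact mu
      · rw [f2, ← hb, sub_add_cancel_left]; exact neg_mem mv
      · show u - u' ∈ _; rw [huu, sub_self]; exact zero_mem _
      · show v' - v ∈ _; rw [hv2]; exact sub_mem (sub_mem (Submodule.smul_mem _ _ mu) mv) mv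
    obtain ⟨hX', hind⟩ := hXdec u v htop
    obtain ⟨h1, h2⟩ := hind (-(α * δ) - 2) (2 * α) (by
      linear_combination (norm := skip) g2
      rw [ha', huu, hv2]; module)
    have h20 : (2 : K) = 0 := (mul_eq_zero.mp h2).resolve_right hα0
    have hδ : δ = 0 := by
      rw [h20, sub_zero, neg_eq_zero, mul_eq_zero] at h1
      exact h1.resolve_left hα0
    have hv3 : v' = v := by
      rw [hv2, hδ, zero_smul, zero_sub]
      refine neg_eq_iff_add_eq_zero.mpr ?_
      rw [← two_smul K, h20, zero_smul]
    -- `c` is central in the third layer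
    have cu : D.l' x u = D.r' u x := by
      conv_lhs => rw [← huu]
      exact D.assoc' x c x
    have cv : D.l' y v = D.r' v y := by
      rw [D.assoc' y c y]
      exact congrArg (fun z => D.r' z y) hv3
    have cc : D.l' x v - D.r' v x = -(D.l' y u - D.r' u y) := by
      rw [D.assoc' x c y]
      conv_lhs => rw [← hv3]
      rw [show D.r' v' x = D.l' y u' from (D.assoc' y c x).symm, huu]
      abel
    have htop' := D.comm_mem' hspan (T := Submodule.span K {D.l' y u - D.r' u y}) hX'
      (by rw [cu, sub_self]; exact zero_mem _) (Submodule.mem_span_singleton_self _)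
      (by rw [cc]; exact neg_mem (Submodule.mem_span_singleton_self _))
      (by rw [cv, sub_self]; exact zero_mem _)
    have h := finrank_le_one_of_span (fun z : Y => z) (by simp) _ fun z => htop' ▸ Submodule.mem_top
    omega

omit hspan

variable [IsAlgClosed K]

include D in
/-- **No such layers exist.** -/
theorem false_of_two (hV : Module.finrank K V ≤ 2) (hW : Module.finrank K W ≤ 2)
    (hX : 2 ≤ Module.finrank K X) (hY : 2 ≤ Module.finrank K Y) : False := by
  classical
  let s : V → V → K := fun a b => D.sigma (D.m a b)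
  have hs : ∀ a b, s a b = s b a := D.sigma_symm
  have hexp : ∀ (a b : V) (t : K), s (a + t • b) (a + t • b) = s a a + 2 * t * s a b + t * t * s b b :=
    fun a b t => by
      have := hs a b
      simp only [s, map_add, map_smul, LinearMap.add_apply, LinearMap.smul_apply, smul_eq_mul] at this ⊢
      linear_combination -t * this
  have hpair : ∀ a b : V, (∀ t : K, t • a ≠ b) → a ≠ 0 → ∀ v, ∃ α β : K, v = α • a + β • b := by
    intro a b h ha v
    have hli : LinearIndependent K ![a, b] := (LinearIndependent.pair_iff' ha).mpr h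
    have htop := hli.span_eq_top_of_card_eq_finrank
      (le_antisymm hli.fintype_card_le_finrank hV)
    obtain ⟨co, hco⟩ := (Submodule.mem_span_range_iff_exists_fun K).mp
      (htop ▸ Submodule.mem_top : v ∈ Submodule.span K (Set.range ![a, b]))
    exact ⟨co 0, co 1, by simpa [Fin.sum_univ_two] using hco.symm⟩
  by_cases hiso : ∃ x w, s x x = 0 ∧ s x w ≠ 0
  · obtain ⟨x, w, hxx, hxw⟩ := hiso
    refine D.false_of_isotropic (x := x) (y := (s x w)⁻¹ • w) (hpair _ _ (fun t ht => ?_)
      fun h => hxw (by simp [s, h])) hW hX hY hxx ?_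
    · have h1 : s x (t • x) = s x ((s x w)⁻¹ • w) := by rw [ht]
      simp only [s, map_smul, smul_eq_mul] at h1 hxx hxw
      rw [hxx, mul_zero] at h1
      exact hxw ((mul_eq_zero.mp h1.symm).elim (fun h => inv_eq_zero.mp h) id)
    · simp only [s] at hxw
      simp [s, hxw]
  · push Not at hiso
    -- every isotropic vector is in the radical
    obtain ⟨a, b, hab⟩ := D.sigma_prod_ne
    obtain ⟨x, hxx⟩ : ∃ x, s x x ≠ 0 := by
      by_contra hc
      push Not at hc
      exact hab (hiso a b (hc a))
    obtain ⟨w, hw⟩ : ∃ w, ∀ t : K, t • x ≠ w := by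
      by_contra hc
      push Not at hc
      have hsym : ∀ a b, D.m a b = D.m b a := fun a b => by
        obtain ⟨t, rfl⟩ := hc a
        obtain ⟨t', rfl⟩ := hc b
        simp only [map_smul, LinearMap.smul_apply, smul_smul, mul_comm t]
      have htop : (⊤ : Submodule K X) ≤ ⊥ := by
        rw [← D.comm_span, Submodule.span_le]
        rintro _ ⟨⟨a, u⟩, rfl⟩
        show D.l a u - D.r u a ∈ (⊥ : Submodule K X)
        rw [Submodule.mem_bot, sub_eq_zero]
        refine LinearMap.congr_fun (g := D.r.flip a) (LinearMap.ext_on D.prod_span fun w ⟨q, hq⟩ => ?_) u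
        subst hq
        obtain ⟨b, c⟩ := q
        show D.l a (D.m b c) = D.r (D.m b c) a
        rw [D.assoc, hsym a b, ← D.assoc, hsym a c, D.assoc]
      have := Submodule.finrank_mono htop
      rw [finrank_top, finrank_bot] at this
      omega
    obtain ⟨q, hq⟩ := IsAlgClosed.exists_root
      (Polynomial.C (s x x) * Polynomial.X ^ 2 + Polynomial.C (2 * s w x) * Polynomial.X +
        Polynomial.C (s w w)) (by rw [Polynomial.degree_quadratic hxx]; norm_num)
    simp only [Polynomial.IsRoot, Polynomial.eval_add, Polynomial.eval_mul, Polynomial.eval_C,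
      Polynomial.eval_pow, Polynomial.eval_X] at hq
    have hy0 : s (w + q • x) (w + q • x) = 0 := by rw [hexp]; linear_combination hq
    have hyr := hiso _ x hy0
    refine D.false_of_rank_one (x := x) (y := w + q • x) (hpair _ _ (fun t ht => ?_)
      fun h => hxx (by simp [s, h])) hW hX hxx ((hs _ _).trans hyr) hy0
    exact hw (t - q) (by rw [sub_smul, ht, add_sub_cancel_right])

end FourLayers

end CfsgLib.Blocks.RankOneFive
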