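import Cfsg.Agent.Lib.Blocks.RankOneFive.LocalSquares
import Cfsg.Agent.Lib.Blocks.RankOneFive.Two

/-!
# A local symmetric algebra with centre of dimension at most five has dimension at most eight

The case of two generators, and the bound on the radical.
-/

set_option autoImplicit false
set_option linter.unusedSectionVars false

namespace CfsgLib.Blocks.RankOneFive

namespace LocalData

variable {K A : Type*} [Field K] [Ring A] [Algebra K A] [FiniteDimensional K A] [IsAlgClosed K]
  (D : LocalData K A)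

/-- If the first layer is a line, it generates all layers. -/
theorem cls_pow_span {x : A} (hx : x ∈ D.J)
    (hG : ∀ u : D.G 1, ∃ s : K, s • D.cls 1 ⟨x, by rwa [pow_one]⟩ = u) :
    ∀ n, 1 ≤ n → n ≤ D.L →
      Submodule.span K {D.cls n ⟨x ^ n, Submodule.pow_mem_pow _ hx n⟩} = ⊤ := by
  intro n hn
  induction n, hn using Nat.le_induction with
  | base =>
    intro _
    refine Submodule.eq_top_iff'.mpr fun u => Submodule.mem_span_singleton.mpr ?_
    obtain ⟨s, hs⟩ := hG u
    refine ⟨s, ?_⟩
    rw [← hs]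
    exact congrArg _ (D.cls_congr (pow_one x))
  | succ n _ ih =>
    intro hn
    refine D.eq_top_of_prod rfl hn fun a b => ?_
    obtain ⟨s, rfl⟩ := Submodule.mem_span_singleton.mp ((ih (by omega)).ge (Submodule.mem_top (x := a)))
    obtain ⟨t, rfl⟩ := hG b
    simp only [map_smul, LinearMap.smul_apply, D.mulG_cls]
    exact Submodule.smul_mem _ _ (Submodule.smul_mem _ _ (Submodule.mem_span_singleton.mpr
      ⟨1, by rw [one_smul]; exact D.cls_congr (pow_succ x n)⟩))

/-- The first layer is not a line. -/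
theorem two_le_finrank_one (hL : 4 ≤ D.L) {f : Fin 2 → A} (hf : ∀ i, f i ∈ D.J)
    (hgen : D.J ≤ Submodule.span K (Set.range f) ⊔ D.J ^ 2)
    (hJ3 : D.J ^ 3 ≤ commPow D.J 1 ⊔ D.J ^ D.L) : 2 ≤ Module.finrank K (D.G 1) := by
  by_contra hlt
  have hpos := D.finrank_pos (k := 1) (by omega) D.exists_top
  let f' : Fin 2 → ↥(D.J ^ 1) := fun i => ⟨f i, by rw [pow_one]; exact hf i⟩
  obtain ⟨i, hi⟩ : ∃ i, D.cls 1 (f' i) ≠ 0 := by
    by_contra h
    push Not at h
    have := D.finrank_le_of_span (ι := Fin 0) (k := 1) Fin.elim0 fun u => by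
      have hu := D.cls_mem_span (by omega) f' (hgen (by simpa using u.2))
      rw [show (Set.range fun i => D.cls 1 (f' i)) = {0} from
        Set.eq_singleton_iff_unique_mem.mpr ⟨⟨0, h 0⟩, by rintro _ ⟨i, rfl⟩; exact h i⟩,
        Submodule.span_zero_singleton, Submodule.mem_bot] at hu
      exact hu ▸ zero_mem _
    simp at this
    omega
  have hG : ∀ u : D.G 1, ∃ s : K, s • D.cls 1 (f' i) = u := fun u =>
    exists_smul_eq_of_finrank_eq_one (by omega) hi u
  set x := f i with hxdef
  have hx : x ∈ D.J := hf i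
  have hxn := D.cls_pow_span hx hG D.L (by omega) le_rfl
  obtain ⟨n, hn⟩ : ∃ n, D.L = 3 + n := ⟨D.L - 3, by omega⟩
  set φ := D.τ.comp (LinearMap.mulRight K (x ^ n)) with hφ
  have hxb : ∀ b, φ (x * b - b * x) = 0 := fun b => by
    show D.τ ((x * b - b * x) * x ^ n) = 0
    rw [sub_mul, map_sub, mul_assoc, D.sym x, mul_assoc, mul_assoc, ← (Commute.self_pow x n).eq,
      sub_self]
  have hxb' : ∀ b, φ (b * x - x * b) = 0 := fun b => by
    rw [← neg_sub, map_neg, hxb, neg_zero]
  have hC1 : commPow D.J 1 ≤ LinearMap.ker φ := by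
    refine (commPow_one_le hf hgen).trans (sup_le (Submodule.span_le.mpr ?_)
      (Submodule.span_le.mpr ?_))
    · rintro _ ⟨⟨j, k⟩, rfl⟩
      show φ (f j * f k - f k * f j) = 0
      fin_cases i <;> fin_cases j <;> fin_cases k
      all_goals
        first
          | exact hxb _
          | exact hxb' _
          | (simp; done)
    · rintro _ ⟨a, ha, u, hu, rfl⟩
      show φ (a * u - u * a) = 0
      obtain ⟨s, hs⟩ := hG (D.cls 1 ⟨a, by rwa [pow_one]⟩)
      have hx1 : x ∈ D.J ^ 1 := by rwa [pow_one]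
      have ha' : ∀ w ∈ D.J ^ (D.L - 1), D.τ ((a - s • x) * w) = 0 := by
        have h0 : D.cls 1 (⟨a, by rwa [pow_one]⟩ - s • ⟨x, hx1⟩) = 0 := by
          rw [map_sub, map_smul, ← hs]; exact sub_self _
        exact D.cls_eq_zero.mp h0
      rw [show a * u - u * a = s • (x * u - u * x) + ((a - s • x) * u - u * (a - s • x)) by
        simp only [sub_mul, mul_sub, smul_mul_assoc, mul_smul_comm]; module, map_add, map_smul,
        hxb, smul_zero, zero_add]
      show D.τ (((a - s • x) * u - u * (a - s • x)) * x ^ n) = 0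
      rw [sub_mul, map_sub, mul_assoc, mul_assoc u, D.sym u, mul_assoc,
        ha' _ (D.mul_mem_pow (by omega) hu (Submodule.pow_mem_pow _ hx n)),
        ha' _ (D.mul_mem_pow (by omega) (Submodule.pow_mem_pow _ hx n) hu), sub_zero]
  have htop : D.J ^ D.L ≤ LinearMap.ker φ := fun s hs => by
    have h := D.mul_mem_pow (show D.L + n = D.L + n from rfl) hs (Submodule.pow_mem_pow _ hx n)
    rw [D.pow_eq_bot (show D.L + 1 ≤ D.L + n by omega), Submodule.mem_bot] at h
    show D.τ (s * x ^ n) = 0
    rw [h, map_zero]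
  have h3 : D.τ (x ^ D.L) = 0 := by
    rw [hn, pow_add]
    exact sup_le hC1 htop (hJ3 (Submodule.pow_mem_pow _ hx 3))
  have hzero : D.cls D.L ⟨x ^ D.L, Submodule.pow_mem_pow _ hx _⟩ = 0 := by
    refine D.cls_eq_zero.mpr fun w hw => ?_
    rw [Nat.sub_self, pow_zero, Submodule.mem_one] at hw
    obtain ⟨r, rfl⟩ := hw
    rw [← Algebra.commutes, ← Algebra.smul_def, map_smul, h3, smul_zero]
  rw [hzero, Submodule.span_zero_singleton] at hxn
  have := D.finrank_pos (k := D.L) le_rfl D.exists_top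
  rw [← finrank_top, ← hxn, finrank_bot] at this
  exact lt_irrefl 0 this

/-- Two generators give length at most four. -/
theorem false_of_gens_two (hL : 5 ≤ D.L) {f : Fin 2 → A} (hf : ∀ i, f i ∈ D.J)
    (hgen : D.J ≤ Submodule.span K (Set.range f) ⊔ D.J ^ 2)
    (hJ : Module.finrank K D.J ≤ Module.finrank K ↥(D.J ^ 2) + 2)
    (hsq : Module.finrank K ↥(D.J ^ 2) ≤ Module.finrank K ↥(commPow D.J 1) + 2) : False := by
  have hV : Module.finrank K (D.G 1) ≤ 2 := (D.finrank_one_le hf hgen (by omega)).trans (by simp)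
  have hnot : ¬D.J ^ 2 ≤ commPow D.J 1 ⊔ D.J ^ 3 := fun h => by
    have := D.three_le_finrank_one (by omega) h
    omega
  obtain ⟨hCS, hCS'⟩ := D.finrank_comm_add (by omega)
  obtain ⟨q, hq, hqle⟩ := exists_gens hCS' (n := 1) (by omega)
  have hJ3 : D.J ^ 3 ≤ commPow D.J 1 ⊔ D.J ^ D.L := by
    by_contra hle
    refine hnot ?_
    have hlt : commPow D.J 1 ⊔ D.J ^ D.L < commPow D.J 1 ⊔ D.J ^ D.L ⊔ D.J ^ 3 :=
      lt_of_le_of_ne le_sup_left fun e => hle (e ▸ le_sup_right)
    have := Submodule.finrank_lt_finrank_of_lt hlt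
    refine (Submodule.eq_of_le_of_finrank_le (sup_le hCS' (pow_anti D.mul_le (by norm_num)
      (by norm_num))) (by omega)).ge.trans (sup_le (sup_le le_sup_left ?_) le_sup_right)
    exact (pow_anti D.mul_le (by norm_num) (by omega)).trans le_sup_right
  have hV2 : Module.finrank K (D.G 1) = 2 :=
    le_antisymm hV (D.two_le_finrank_one (by omega) hf hgen hJ3)
  set c := f 0 * f 1 - f 1 * f 0 with hc
  have hcC : c ∈ commPow D.J 1 := mem_commPow (hf 0) (by rw [pow_one]; exact hf 1)
  have hC : commPow D.J 1 ≤ Submodule.span K {c} ⊔ commPow D.J 2 := by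
    refine (commPow_one_le hf hgen).trans (sup_le_sup_right (Submodule.span_le.mpr ?_) _)
    rintro _ ⟨⟨i, j⟩, rfl⟩
    fin_cases i <;> fin_cases j
    · simp
    · exact Submodule.mem_span_singleton_self _
    · show f 1 * f 0 - f 0 * f 1 ∈ _
      rw [← neg_sub]; exact neg_mem (Submodule.mem_span_singleton_self _)
    · simp
  have hL3 : D.J ^ D.L ≤ D.J ^ 3 := pow_anti D.mul_le (by norm_num) (by omega)
  let g : Fin 2 → A := ![q 0, c]
  let g' : Fin 2 → ↥(D.J ^ 2) :=
    fun i => ⟨g i, by fin_cases i <;> [exact hq 0; exact D.comm_le hcC]⟩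
  have hgen2 : D.J ^ 2 ≤ Submodule.span K (Set.range g) ⊔ D.J ^ 3 := by
    have hg : ∀ i, g i ∈ Submodule.span K (Set.range g) := fun i => Submodule.subset_span ⟨i, rfl⟩
    refine hqle.trans (sup_le ?_ (sup_le (hC.trans (sup_le ?_ ?_)) (hL3.trans le_sup_right)))
    · rw [Submodule.span_le]
      rintro _ ⟨i, rfl⟩
      rw [Subsingleton.elim i 0]
      exact Submodule.mem_sup_left (hg 0)
    · rw [Submodule.span_singleton_le_iff_mem]
      exact Submodule.mem_sup_left (hg 1)
    · exact (commPow_le D.J 2).trans le_sup_right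
  have hW : Module.finrank K (D.G 2) ≤ 2 := (D.finrank_le_of_span g' fun u =>
    D.cls_mem_span (by omega) g' (hgen2 u.2)).trans (by simp)
  have hW2 : 2 ≤ Module.finrank K (D.G 2) := by
    have h := D.layer_large (k := 1) (show 1 + 2 ≤ D.L by omega)
    change min 3 (Module.finrank K (D.G 1)) ≤ Module.finrank K (D.G 2) at h
    omega
  have hline : ∀ w ∈ D.J ^ 2, ¬D.J ^ 2 ≤ Submodule.span K {w} ⊔ D.J ^ 3 := fun w hw hle => by
    have h := D.finrank_le_of_span (ι := Fin 1) (fun _ => (⟨w, hw⟩ : ↥(D.J ^ 2))) fun u =>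
      D.cls_mem_span (by omega) (fun _ : Fin 1 => (⟨w, hw⟩ : ↥(D.J ^ 2)))
        (show (u : A) ∈ _ by rw [Set.range_const]; exact hle u.2)
    simp at h
    omega
  have hrank2 : Module.finrank K ↥(D.J ^ 2) ≤ Module.finrank K ↥(D.J ^ 3) + 2 := by
    refine (Submodule.finrank_mono hgen2).trans ((Submodule.finrank_add_le_finrank_add_finrank _ _).trans ?_)
    have := (finrank_range_le_card (R := K) g).trans (Fintype.card_fin 2).le
    unfold Set.finrank at this
    omega
  obtain ⟨z1, z2, hz1, hz2, hz⟩ := exists_commPow_pair D.mul_le (hf 0) (hf 1)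
    (by rwa [← range_pair, show (![f 0, f 1] : Fin 2 → A) = f by ext i; fin_cases i <;> rfl])
    hJ hrank2 hline
  let z' : Fin 2 → ↥(D.J ^ 3) := ![⟨z1, commPow_le D.J 2 hz1⟩, ⟨z2, commPow_le D.J 2 hz2⟩]
  have hz' : (Set.range fun i => (z' i : A)) = {z1, z2} := by
    rw [← range_pair]; congr 1; funext i; fin_cases i <;> rfl
  -- the class of the commutator of the generators
  set γ := D.cls 2 ⟨c, D.comm_le hcC⟩ with hγdef
  have hcomm2 : D.commLayer (show 1 + 1 = 2 from rfl) (show 2 ≤ D.L by omega) ≤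
      Submodule.span K {γ} := by
    refine Submodule.span_le.mpr ?_
    rintro _ ⟨⟨a, b⟩, rfl⟩
    obtain ⟨⟨a, ha⟩, rfl⟩ := D.cls_surj 1 a
    obtain ⟨⟨b, hb⟩, rfl⟩ := D.cls_surj 1 b
    show D.mulG _ _ (D.cls 1 _) (D.cls 1 _) - D.mulG _ _ (D.cls 1 _) (D.cls 1 _) ∈ _
    rw [D.mulG_cls, D.mulG_cls, ← map_sub]
    have h := D.cls_mem_span (k := 2) (by omega) (fun _ : Fin 1 => (⟨c, D.comm_le hcC⟩ : ↥(D.J ^ 2)))
      (u := ⟨a * b, D.mul_mem_pow rfl ha hb⟩ - ⟨b * a, D.mul_mem_pow rfl hb ha⟩) (by
        rw [Set.range_const]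
        show a * b - b * a ∈ _
        exact (hC.trans (sup_le_sup_left (commPow_le D.J 2) _))
          (mem_commPow (by rwa [pow_one] at ha) hb))
    rwa [Set.range_const] at h
  have hγlt : Submodule.span K {γ} < ⊤ := Ne.lt_top fun htop => by
    have h1 := finrank_span_le_card (R := K) ({γ} : Set (D.G 2))
    rw [htop, finrank_top] at h1
    simp at h1
    omega
  have hγ0 : γ ≠ 0 := fun h0 => hnot <| by
    exfalso
    have h := D.finrank_le_of_span (ι := Fin 1) (fun _ => (⟨q 0, hq 0⟩ : ↥(D.J ^ 2))) fun u => by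
      have h := D.cls_mem_span (by omega) g' (hgen2 u.2)
      refine Submodule.span_le.mpr ?_ h
      rintro _ ⟨i, rfl⟩
      fin_cases i
      · exact Submodule.subset_span ⟨0, rfl⟩
      · show γ ∈ _
        rw [h0]; exact zero_mem _
    simp at h
    omega
  have hX3 : D.J ^ 3 ≤ commPow D.J 2 ⊔ D.J ^ (3 + 1) := by
    intro j hj
    obtain ⟨c', hc', s, hs, hcs⟩ := Submodule.mem_sup.mp (hJ3 hj)
    obtain ⟨v, hv, e, he, hve⟩ := Submodule.mem_sup.mp (hC hc')
    obtain ⟨a, rfl⟩ := Submodule.mem_span_singleton.mp hv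
    have hs4 : s ∈ D.J ^ (3 + 1) := pow_anti D.mul_le (by norm_num) (by omega) hs
    have hv3 : a • c ∈ D.J ^ 3 := by
      rw [show a • c = j - e - s by rw [← hcs, ← hve]; abel]
      exact sub_mem (sub_mem hj (commPow_le D.J 2 he))
        (pow_anti D.mul_le (by norm_num) (by norm_num) hs4)
    have h0 : a • γ = 0 := by
      rw [hγdef, ← map_smul]
      exact D.cls_eq_zero_of_mem (by omega) hv3
    rw [(smul_eq_zero.mp h0).resolve_right hγ0, zero_smul, zero_add] at hve
    rw [← hcs, ← hve]
    exact Submodule.add_mem_sup he hs4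
  have hspan3 : ⊤ ≤ Submodule.span K (Set.range fun i => D.cls 3 (z' i)) := fun u _ => by
    obtain ⟨⟨j, hj⟩, rfl⟩ := D.cls_surj 3 u
    refine D.cls_mem_span (by omega) z' ?_
    rw [hz']
    exact (hX3.trans (sup_le (hz.trans (sup_le_sup_left (commPow_le D.J 3) _)) le_sup_right)) hj
  have hX : 2 ≤ Module.finrank K (D.G 3) := by
    have h := D.layer_large (k := 2) (show 2 + 2 ≤ D.L by omega)
    change min 3 (Module.finrank K (D.G 1)) ≤ Module.finrank K (D.G 3) at h
    omega
  have hY : 2 ≤ Module.finrank K (D.G 4) := by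
    have h := D.layer_large (k := 3) (show 3 + 2 ≤ D.L by omega)
    change min 3 (Module.finrank K (D.G 1)) ≤ Module.finrank K (D.G 4) at h
    omega
  have hli : LinearIndependent K fun i => D.cls 3 (z' i) :=
    linearIndependent_of_top_le_span_of_card_eq_finrank hspan3 (le_antisymm (by simpa using hX)
      (D.finrank_le_of_span z' fun u => hspan3 Submodule.mem_top))
  have hX4 : D.J ^ 4 ≤ commPow D.J 3 ⊔ D.J ^ (4 + 1) := by
    intro j hj
    obtain ⟨c', hc', s, hs, hcs⟩ := Submodule.mem_sup.mp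
      (hJ3 (pow_anti D.mul_le (by norm_num) (by norm_num) hj))
    obtain ⟨v, hv, e, he, hve⟩ := Submodule.mem_sup.mp (hC hc')
    obtain ⟨a, rfl⟩ := Submodule.mem_span_singleton.mp hv
    have hs5 : s ∈ D.J ^ (4 + 1) := pow_anti D.mul_le (by norm_num) (by omega) hs
    have hs4 : s ∈ D.J ^ 4 := pow_anti D.mul_le (by norm_num) (by norm_num) hs5
    have hv3 : a • c ∈ D.J ^ 3 := by
      rw [show a • c = j - e - s by rw [← hcs, ← hve]; abel]
      exact sub_mem (sub_mem (pow_anti D.mul_le (by norm_num) (by norm_num) hj)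
        (commPow_le D.J 2 he)) (pow_anti D.mul_le (by norm_num) (by norm_num) hs4)
    have h0 : a • γ = 0 := by
      rw [hγdef, ← map_smul]
      exact D.cls_eq_zero_of_mem (by omega) hv3
    rw [(smul_eq_zero.mp h0).resolve_right hγ0, zero_smul, zero_add] at hve
    obtain ⟨w, hw, e', he', hwe⟩ := Submodule.mem_sup.mp (hz he)
    rw [← hz'] at hw
    obtain ⟨b, hb⟩ := (Submodule.mem_span_range_iff_exists_fun K).mp hw
    have hw4 : w ∈ D.J ^ (3 + 1) := by
      rw [show w = j - e' - s by rw [← hcs, ← hve, ← hwe]; abel]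
      exact sub_mem (sub_mem hj (commPow_le D.J 3 he')) hs4
    have h1 : ∑ i, b i • D.cls 3 (z' i) = 0 := by
      simp only [← map_smul]
      rw [← map_sum]
      refine D.cls_eq_zero_of_mem (by omega) ?_
      rw [← hb] at hw4
      simpa using hw4
    have hw0 : w = 0 := by
      rw [← hb]
      simp [fun i => Fintype.linearIndependent_iff.mp hli b h1 i]
    rw [← hcs, ← hve, ← hwe, hw0, zero_add]
    exact Submodule.add_mem_sup he' hs5
  obtain ⟨σ, hσ, hσγ⟩ := Submodule.exists_dual_map_eq_bot_of_lt_top hγlt inferInstance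
  refine FourLayers.false_of_two
    { m := D.mulG (show 1 + 1 = 2 from rfl) (by omega)
      l := D.mulG (show 1 + 2 = 3 from rfl) (by omega)
      r := D.mulG (show 2 + 1 = 3 from rfl) (by omega)
      l' := D.mulG (show 1 + 3 = 4 from rfl) (by omega)
      r' := D.mulG (show 3 + 1 = 4 from rfl) (by omega)
      assoc := fun a b c => D.mulG_assoc _ _ _ _ _ _ _ a b c
      assoc' := fun a b c => D.mulG_assoc _ _ _ _ _ _ _ a b c
      prod_span := D.prod_span _ _
      comm_span := D.commLayer_eq_top rfl (by omega) hX3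
      comm_span' := D.commLayer_eq_top rfl (by omega) hX4
      sigma := σ
      sigma_ne := hσ
      sigma_symm := fun a b => by
        have h : σ (D.mulG (show 1 + 1 = 2 from rfl) (show 2 ≤ D.L by omega) a b -
            D.mulG (show 1 + 1 = 2 from rfl) (show 2 ≤ D.L by omega) b a) = 0 := by
          rw [← Submodule.mem_bot K, ← hσγ]
          exact Submodule.mem_map_of_mem (hcomm2 (Submodule.subset_span ⟨(a, b), rfl⟩))
        rwa [map_sub, sub_eq_zero] at h } hV hW hX hY

/-- **The radical has dimension at most seven.** -/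
theorem finrank_le_seven : Module.finrank K D.J ≤ 7 := by
  by_cases hC : commPow D.J 1 = ⊥
  · have := D.rank_le
    rw [hC, finrank_bot] at this
    omega
  have hL := D.three_le hC
  have h21 : D.J ^ 2 ≤ D.J := by rw [pow_two]; exact D.mul_le
  obtain ⟨hCS, hCS'⟩ := D.finrank_comm_add (by omega)
  have hCS2 := Submodule.finrank_mono hCS'
  have hrank := D.rank_le
  have h2 : Module.finrank K ↥(D.J ^ 2) + 2 ≤ Module.finrank K D.J := by
    by_contra hlt
    obtain ⟨f, hf, hgen⟩ := exists_gens h21 (n := 1) (by omega)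
    exact hC (D.one_gen (f 0) (hf 0) (by rwa [Set.range_unique] at hgen))
  by_cases h3 : Module.finrank K D.J ≤ Module.finrank K ↥(D.J ^ 2) + 2
  · obtain ⟨f, hf, hgen⟩ := exists_gens h21 (n := 2) h3
    obtain ⟨q, hq, hqle⟩ := exists_gens hCS' (n := 1) (by omega)
    have hsq : Module.finrank K ↥(D.J ^ 2) ≤ Module.finrank K ↥(D.J ^ 3) + 2 := by
      have hle : D.J ^ 2 ≤
          Submodule.span K {q 0, f 0 * f 1 - f 1 * f 0} ⊔ D.J ^ 3 := by
        refine hqle.trans (sup_le ?_ (sup_le ((commPow_one_le hf hgen).trans (sup_le ?_ ?_)) ?_))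
        · rw [Set.range_unique, Submodule.span_singleton_le_iff_mem]
          exact Submodule.mem_sup_left (Submodule.subset_span (Set.mem_insert _ _))
        · rw [Submodule.span_le]
          have hm : f 0 * f 1 - f 1 * f 0 ∈
              Submodule.span K {q 0, f 0 * f 1 - f 1 * f 0} ⊔ D.J ^ 3 :=
            Submodule.mem_sup_left (Submodule.subset_span (Set.mem_insert_of_mem _ rfl))
          rintro _ ⟨⟨i, j⟩, rfl⟩
          fin_cases i <;> fin_cases j
          · simp
          · exact hm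
          · show f 1 * f 0 - f 0 * f 1 ∈ _
            exact (Submodule.neg_mem_iff _).mp (by rw [neg_sub]; exact hm)
          · simp
        · exact (commPow_le D.J 2).trans le_sup_right
        · exact (pow_anti D.mul_le (by norm_num) hL).trans le_sup_right
      refine (Submodule.finrank_mono hle).trans ((Submodule.finrank_add_le_finrank_add_finrank _ _).trans ?_)
      classical
      have : Module.finrank K
          ↥(Submodule.span K ({q 0, f 0 * f 1 - f 1 * f 0} : Set A)) ≤ 2 :=
        (finrank_span_le_card (R := K) _).trans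
          (by simp only [Set.toFinset_insert, Set.toFinset_singleton]; exact Finset.card_le_two)
      omega
    by_cases h5 : 5 ≤ D.L
    · exact (D.false_of_gens_two h5 hf hgen h3 (by omega)).elim
    have := D.finrank_pow_le hgen (n := 3) (by norm_num) (by omega)
    simp at this
    omega
  · obtain ⟨f, hf, hgen⟩ := exists_gens h21 (n := 3) (by omega)
    have hsq : commPow D.J 1 ⊔ D.J ^ D.L = D.J ^ 2 :=
      Submodule.eq_of_le_of_finrank_le hCS' (by omega)
    by_cases h4 : 4 ≤ D.L
    · exact (D.false_of_gens_three h4 hf hgen hsq.ge).elim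
    have := D.finrank_pow_le hgen (n := 2) (by norm_num) (by omega)
    simp at this
    omega

end LocalData

end CfsgLib.Blocks.RankOneFive
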