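import Mathlib.LinearAlgebra.Dual.Lemmas
import Mathlib.LinearAlgebra.Eigenspace.Triangularizable
import Mathlib.LinearAlgebra.FiniteDimensional.Lemmas
import Mathlib.Tactic.Module
import Mathlib.Tactic.LinearCombination

/-!
# Three generators and products spanned by commutators

Three layers of a graded algebra on three generators, in which the second layer is spanned by the
commutators of the generators and the third is at least three-dimensional, always have a functional
on the third layer which kills the commutators with the generators.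
-/

set_option autoImplicit false
set_option linter.unusedSectionVars false

namespace CfsgLib.Blocks.RankOneFive

variable {K : Type*} [Field K]

/-- Three layers of a graded algebra, spanned by the products of the first one. -/
structure Layers (V W X : Type*) [AddCommGroup V] [Module K V] [AddCommGroup W] [Module K W]
    [AddCommGroup X] [Module K X] where
  m : V →ₗ[K] V →ₗ[K] W
  l : V →ₗ[K] W →ₗ[K] X
  r : W →ₗ[K] V →ₗ[K] X
  assoc : ∀ a b c, l a (m b c) = r (m a b) c
  comm_span : Submodule.span K (Set.range fun q : V × V => m q.1 q.2 - m q.2 q.1) = ⊤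
  comm_span' : Submodule.span K (Set.range fun q : V × W => l q.1 q.2 - r q.2 q.1) = ⊤
  left : ∀ a, (∀ u, l a u = 0) → a = 0
  right : ∀ c, (∀ u, r u c = 0) → c = 0

variable {V W X : Type*} [AddCommGroup V] [Module K V] [AddCommGroup W] [Module K W]
  [AddCommGroup X] [Module K X]

namespace Layers

/-- The opposite layers. -/
def flip (D : Layers (K := K) V W X) : Layers (K := K) V W X where
  m := D.m.flip
  l := D.r.flip
  r := D.l.flip
  assoc a b c := (D.assoc c b a).symm
  comm_span := by
    rw [← D.comm_span]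
    congr 1
    exact Set.ext fun w => ⟨fun ⟨q, hq⟩ => ⟨(q.2, q.1), hq⟩, fun ⟨q, hq⟩ => ⟨(q.2, q.1), hq⟩⟩
  comm_span' := by
    rw [eq_top_iff, ← D.comm_span', Submodule.span_le]
    rintro _ ⟨q, rfl⟩
    have h := Submodule.neg_mem _ (Submodule.subset_span (R := K)
      (s := Set.range fun q : V × W => D.r.flip q.1 q.2 - D.l.flip q.2 q.1) ⟨q, rfl⟩)
    simpa using h
  left := D.right
  right := D.left

variable [FiniteDimensional K V] [FiniteDimensional K W] [FiniteDimensional K X]
  (D : Layers (K := K) V W X)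

/-- A functional on the second layer which is symmetric on products is zero. -/
theorem eq_zero_of_symm {k : Module.Dual K W} (h : ∀ a b, k (D.m a b) = k (D.m b a)) : k = 0 := by
  refine LinearMap.ext_on D.comm_span fun w ⟨q, hq⟩ => ?_
  subst hq
  simp [h q.1 q.2]

theorem ext_of_span {Z : Type*} [AddCommGroup Z] [Module K Z] {f g : W →ₗ[K] Z}
    (h : ∀ a b, f (D.m a b) = g (D.m a b)) : f = g := by
  refine LinearMap.ext_on D.comm_span fun w ⟨q, hq⟩ => ?_
  subst hq
  simp [h]

theorem top_ne {f : Module.Dual K X} (hf : f ≠ 0) : ∃ b v c, f (D.r (D.m b v) c) ≠ 0 := by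
  by_contra hc
  push Not at hc
  refine hf (LinearMap.ext_on D.comm_span' fun x ⟨q, hq⟩ => ?_)
  subst hq
  obtain ⟨a, u⟩ := q
  have h1 : f.comp (D.l a) = 0 := D.ext_of_span fun b v => by
    simp [D.assoc, hc a b v]
  have h2 : f.comp (D.r.flip a) = 0 := D.ext_of_span fun b v => by
    simp [hc b v a]
  simp only [LinearMap.comp_apply, map_sub, LinearMap.zero_apply]
  rw [show f (D.l a u) = 0 from LinearMap.congr_fun h1 u,
    show f (D.r u a) = 0 from LinearMap.congr_fun h2 u, sub_zero]

/-- Two independent functionals in a three-dimensional space cut out a line. -/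
theorem finrank_le_one_of_dual {S : Submodule K W} (T : Submodule K (Module.Dual K W))
    (hW : Module.finrank K W = 3) (hT : 2 ≤ Module.finrank K T)
    (h : ∀ φ ∈ T, ∀ s ∈ S, φ s = 0) : Module.finrank K S ≤ 1 := by
  have h1 : Module.finrank K T ≤ Module.finrank K S.dualAnnihilator :=
    Submodule.finrank_mono fun φ hφ => (Submodule.mem_dualAnnihilator φ).mpr (h φ hφ)
  have h2 := Subspace.finrank_add_finrank_dualAnnihilator_eq S
  omega

variable [IsAlgClosed K]

/-- Some generator has a one-dimensional space of products on one side. -/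
theorem exists_line (hV : Module.finrank K V = 3) (hW : Module.finrank K W = 3)
    (hX : 3 ≤ Module.finrank K X) : ∃ a, a ≠ 0 ∧ (Module.finrank K (LinearMap.range (D.m a)) ≤ 1 ∨
      Module.finrank K (LinearMap.range (D.m.flip a)) ≤ 1) := by
  classical
  obtain ⟨a, ha, hns⟩ : ∃ a, a ≠ 0 ∧ LinearMap.range (D.l a) ≠ ⊤ := by
    by_contra hc
    push Not at hc
    let bV := Module.finBasisOfFinrankEq K V hV
    have hne := fun i => bV.ne_zero i
    have heq : Module.finrank K W = Module.finrank K X := le_antisymm (hW ▸ hX) (by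
      have h := LinearMap.finrank_range_le (D.l (bV 0))
      rwa [hc _ (hne 0), finrank_top] at h)
    have hinj : Function.Injective (D.l (bV 0)) :=
      (LinearMap.injective_iff_surjective_of_finrank_eq_finrank heq).mpr
        (LinearMap.range_eq_top.mp (hc _ (hne 0)))
    let E := LinearEquiv.ofInjectiveOfFinrankEq (D.l (bV 0)) hinj heq
    have : Nontrivial W := Module.nontrivial_of_finrank_pos (R := K) (by omega)
    obtain ⟨μ, hμ⟩ := Module.End.exists_eigenvalue (E.symm.toLinearMap.comp (D.l (bV 1)))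
    obtain ⟨v, hv⟩ := hμ.exists_hasEigenvector
    have hne' : bV 1 - μ • bV 0 ≠ 0 := fun h => by
      have := congrArg (fun t => bV.repr t 1) h
      simp at this
    have hv' : D.l (bV 1 - μ • bV 0) v = 0 := by
      have h1 : E.symm (D.l (bV 1) v) = μ • v := hv.apply_eq_smul
      rw [LinearEquiv.symm_apply_eq, map_smul] at h1
      rw [map_sub, map_smul, LinearMap.sub_apply, LinearMap.smul_apply, sub_eq_zero, h1]
      rfl
    exact hv.2 ((LinearMap.injective_iff_surjective_of_finrank_eq_finrank heq).mpr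
      (LinearMap.range_eq_top.mp (hc _ hne')) (by rw [hv', map_zero]))
  obtain ⟨f, hf0, hf⟩ := Submodule.exists_mem_ne_zero_of_ne_bot
    (p := (LinearMap.range (D.l a)).dualAnnihilator) (by
      rwa [Ne, Submodule.dualAnnihilator_eq_bot_iff]) |>.imp fun f h => And.intro h.2 h.1
  rw [Submodule.mem_dualAnnihilator] at hf
  set Ψ : V →ₗ[K] Module.Dual K W := D.r.flip.compr₂ f with hΨ
  by_cases hΨ2 : 2 ≤ Module.finrank K (LinearMap.range Ψ)
  · refine ⟨a, ha, Or.inl (finrank_le_one_of_dual _ hW hΨ2 ?_)⟩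
    rintro _ ⟨c, rfl⟩ _ ⟨v, rfl⟩
    show f (D.r (D.m a v) c) = 0
    rw [← D.assoc]
    exact hf _ ⟨_, rfl⟩
  obtain ⟨h, k, hk⟩ : ∃ (h : Module.Dual K V) (k : Module.Dual K W), ∀ c u, f (D.r u c) = h c * k u := by
    by_cases h0 : Ψ = 0
    · exact ⟨0, 0, fun c u => by
        rw [show f (D.r u c) = Ψ c u from rfl, h0]; simp⟩
    obtain ⟨k, hk0, hk⟩ := Submodule.exists_mem_ne_zero_of_ne_bot
      (fun h => h0 (LinearMap.range_eq_bot.mp h)) |>.imp fun k h => And.intro h.2 h.1
    have hr : LinearMap.range Ψ = Submodule.span K {k} := (Submodule.eq_of_le_of_finrank_le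
      ((Submodule.span_singleton_le_iff_mem _ _).mpr hk)
      (by rw [finrank_span_singleton hk0]; omega)).symm
    obtain ⟨w, hw⟩ : ∃ w, k w ≠ 0 := by
      by_contra hc
      push Not at hc
      exact hk0 (LinearMap.ext hc)
    refine ⟨(k w)⁻¹ • Ψ.flip w, k, fun c u => ?_⟩
    obtain ⟨t, ht⟩ := Submodule.mem_span_singleton.mp
      (hr ▸ LinearMap.mem_range_self Ψ c : Ψ c ∈ Submodule.span K {k})
    show Ψ c u = _
    simp only [LinearMap.smul_apply, LinearMap.flip_apply, smul_eq_mul, ← ht]
    field_simp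
  obtain ⟨b₁, v₁, c₁, h1⟩ := D.top_ne hf0
  rw [hk] at h1
  have hh1 : h c₁ ≠ 0 := left_ne_zero_of_mul h1
  have hk1 : k (D.m b₁ v₁) ≠ 0 := right_ne_zero_of_mul h1
  set Φ : V →ₗ[K] Module.Dual K W := D.l.compr₂ f with hΦ
  by_cases hΦ2 : 2 ≤ Module.finrank K (LinearMap.range Φ)
  · obtain ⟨c, hc, hc0⟩ := Submodule.exists_mem_ne_zero_of_ne_bot
      (LinearMap.ker_ne_bot_of_finrank_lt (f := h) (by rw [Module.finrank_self]; omega))
    refine ⟨c, hc0, Or.inr (finrank_le_one_of_dual _ hW hΦ2 ?_)⟩
    rintro _ ⟨b, rfl⟩ _ ⟨v, rfl⟩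
    show f (D.l b (D.m v c)) = 0
    rw [D.assoc, hk, LinearMap.mem_ker.mp hc, zero_mul]
  -- `f` is a product of three forms
  have hΦb : ∀ b v c, Φ b (D.m v c) = h c * k (D.m b v) := fun b v c => by
    rw [← hk, ← D.assoc]; rfl
  obtain ⟨l', hl'⟩ : ∃ l' : Module.Dual K W, LinearMap.range Φ = Submodule.span K {l'} := by
    have hne : LinearMap.range Φ ≠ ⊥ := fun h0 => by
      have h2 := hΦb b₁ v₁ c₁
      rw [LinearMap.range_eq_bot.mp h0] at h2
      exact h1 h2.symm
    obtain ⟨l', hl, hl0⟩ := Submodule.exists_mem_ne_zero_of_ne_bot hne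
    exact ⟨l', (Submodule.eq_of_le_of_finrank_le ((Submodule.span_singleton_le_iff_mem _ _).mpr hl)
      (by rw [finrank_span_singleton hl0]; omega)).symm⟩
  choose γ hγ using fun b => Submodule.mem_span_singleton.mp
    (hl' ▸ LinearMap.mem_range_self Φ b : Φ b ∈ Submodule.span K {l'})
  have hprod : ∀ b v c, γ b * l' (D.m v c) = h c * k (D.m b v) := fun b v c => by
    rw [← hΦb, ← hγ]; rfl
  set φv : Module.Dual K V := l'.comp (D.m.flip c₁) with hφv
  set ψb : Module.Dual K V := k.comp (D.m.flip v₁) with hψb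
  have e1 : ∀ b v, γ b * φv v = h c₁ * k (D.m b v) := fun b v => hprod b v c₁
  have hγ1 : γ b₁ * φv v₁ ≠ 0 := by rw [e1]; exact h1
  have e2 : ∀ b, γ b * φv v₁ = h c₁ * ψb b := fun b => e1 b v₁
  obtain ⟨a', ha', ha'0⟩ : ∃ a' ∈ LinearMap.ker ψb ⊓ LinearMap.ker φv, a' ≠ 0 := by
    refine Submodule.exists_mem_ne_zero_of_ne_bot fun hbot => ?_
    have h4 := LinearMap.finrank_range_add_finrank_ker (ψb.prod φv)
    have h5 := Submodule.finrank_le (LinearMap.range (ψb.prod φv))
    rw [LinearMap.ker_prod, hbot, finrank_bot] at h4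
    rw [Module.finrank_prod, Module.finrank_self] at h5
    omega
  rw [Submodule.mem_inf, LinearMap.mem_ker, LinearMap.mem_ker] at ha'
  have hγ' : γ a' = 0 := by
    have h2 := e2 a'
    rw [ha'.1, mul_zero] at h2
    exact (mul_eq_zero.mp h2).resolve_right (right_ne_zero_of_mul hγ1)
  have hka : ∀ v, k (D.m a' v) = 0 := fun v => by
    have h2 := e1 a' v
    rw [hγ', zero_mul] at h2
    exact (mul_eq_zero.mp h2.symm).resolve_left hh1
  have hla : ∀ c, l' (D.m a' c) = 0 := fun c => by
    have h2 := hprod b₁ a' c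
    have h3 := e1 b₁ a'
    rw [ha'.2, mul_zero] at h3
    rw [(mul_eq_zero.mp h3.symm).resolve_left hh1, mul_zero] at h2
    exact (mul_eq_zero.mp h2).resolve_left (left_ne_zero_of_mul hγ1)
  refine ⟨a', ha'0, Or.inl (finrank_le_one_of_dual (Submodule.span K {k, l'}) hW ?_ ?_)⟩
  · by_contra hlt
    have hk0 : k ≠ 0 := fun h0 => hk1 (by rw [h0]; rfl)
    obtain ⟨t, ht⟩ : ∃ t : K, t • k = l' := by
      refine Submodule.mem_span_singleton.mp ?_
      rw [Submodule.eq_of_le_of_finrank_le (S₂ := Submodule.span K {k, l'})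
        (Submodule.span_mono (by simp)) (by rw [finrank_span_singleton hk0]; omega)]
      exact Submodule.subset_span (Set.mem_insert_of_mem _ rfl)
    refine hk1 (LinearMap.congr_fun (D.eq_zero_of_symm (k := k) fun b v => ?_) (D.m b₁ v₁))
    have key : ∀ v c, γ b₁ * (t * k (D.m v c)) = h c * k (D.m b₁ v) := fun v c => by
      rw [← hprod, ← ht]; rfl
    have hφ : ∀ v, γ b₁ * t * γ v * φv v₁ = h v₁ * γ b₁ * φv v := fun v => by
      linear_combination h c₁ * key v v₁ + γ b₁ * t * e1 v v₁ - h v₁ * e1 b₁ v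
    have ht0 : t * γ b₁ ≠ 0 := fun h0 => by
      have h2 := e1 b₁ v₁
      have h3 := hprod b₁ v₁ c₁
      rw [← ht, LinearMap.smul_apply, smul_eq_mul, ← mul_assoc, mul_comm (γ b₁), h0, zero_mul] at h3
      exact h1 h3.symm
    have hv1 : h v₁ ≠ 0 := fun h0 => by
      have h2 := hφ b₁
      rw [h0, zero_mul, zero_mul, mul_comm (γ b₁) t] at h2
      exact mul_ne_zero ht0 hγ1 (by linear_combination h2)
    refine mul_left_cancel₀ (mul_ne_zero (mul_ne_zero hh1 hv1) (left_ne_zero_of_mul hγ1)) ?_
    linear_combination (-(h v₁ * γ b₁)) * e1 b v + h v₁ * γ b₁ * e1 v b - γ b * hφ v + γ v * hφ b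
  · intro φ hφ s hs
    obtain ⟨v, rfl⟩ := hs
    induction hφ using Submodule.span_induction with
    | mem φ h => rcases h with rfl | rfl
                 · exact hka v
                 · exact hla v
    | zero => rfl
    | add φ φ' _ _ h h' => rw [LinearMap.add_apply, h, h', add_zero]
    | smul t φ _ h => rw [LinearMap.smul_apply, h, smul_zero]



end Layers

end CfsgLib.Blocks.RankOneFive
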