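import Cfsg.Agent.Lib.Blocks.RankOneFive.Three

/-!
# A generator whose products on one side form a line
-/

set_option autoImplicit false
set_option linter.unusedSectionVars false

namespace CfsgLib.Blocks.RankOneFive.Layers

variable {K : Type*} [Field K] {V W X : Type*} [AddCommGroup V] [Module K V] [AddCommGroup W]
  [Module K W] [AddCommGroup X] [Module K X] [FiniteDimensional K V] [FiniteDimensional K W]
  [FiniteDimensional K X] (D : Layers (K := K) V W X)

/-- The square of a generator with a line of products on the left is zero. -/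
theorem sq_zero {x : V} (hx : x ≠ 0) (h1 : Module.finrank K (LinearMap.range (D.m x)) ≤ 1) :
    D.m x x = 0 := by
  by_contra hne
  have hsp : Submodule.span K {D.m x x} = LinearMap.range (D.m x) :=
    Submodule.eq_of_le_of_finrank_le ((Submodule.span_singleton_le_iff_mem _ _).mpr ⟨x, rfl⟩)
      (by rw [finrank_span_singleton hne]; exact h1)
  choose β hβ using fun b => Submodule.mem_span_singleton.mp
    (hsp ▸ LinearMap.mem_range_self (D.m x) b : D.m x b ∈ Submodule.span K {D.m x x})
  have h0 : ∀ b, D.r (D.m x x) b = β b • D.r (D.m x x) x := fun b => by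
    rw [← D.assoc, ← hβ b, map_smul, D.assoc]
  refine hx (D.left x fun u => LinearMap.congr_fun (?_ : D.l x = 0) u)
  refine LinearMap.ext_on D.comm_span fun w ⟨q, hq⟩ => ?_
  subst hq
  rw [map_sub, D.assoc, D.assoc, ← hβ q.1, ← hβ q.2, map_smul, map_smul, LinearMap.smul_apply,
    LinearMap.smul_apply, h0 q.2, h0 q.1, smul_smul, smul_smul, mul_comm (β q.1), sub_self,
    LinearMap.zero_apply]

/-- The commutators of a generating triple span. -/
theorem ext_three {Z : Type*} [AddCommGroup Z] [Module K Z] {x y z : V}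
    (hspan : ∀ v, ∃ α β γ : K, v = α • x + β • y + γ • z) (f : W →ₗ[K] Z)
    (e1 : f (D.m x y - D.m y x) = 0) (e2 : f (D.m x z - D.m z x) = 0)
    (e3 : f (D.m y z - D.m z y) = 0) : f = 0 := by
  refine LinearMap.ext_on D.comm_span fun w ⟨q, hq⟩ => ?_
  subst hq
  obtain ⟨a, b, c, h⟩ := hspan q.1
  obtain ⟨a', b', c', h'⟩ := hspan q.2
  have : D.m q.1 q.2 - D.m q.2 q.1 = (a * b' - b * a') • (D.m x y - D.m y x) +
      (a * c' - c * a') • (D.m x z - D.m z x) + (b * c' - c * b') • (D.m y z - D.m z y) := by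
    rw [h, h']
    simp only [map_add, map_smul, LinearMap.add_apply, LinearMap.smul_apply]
    module
  simp only [this, map_add, map_smul, e1, e2, e3, smul_zero, add_zero, LinearMap.zero_apply]

/-- The products on the other side form a line as well. -/
theorem exists_smul_eq (hW : Module.finrank K W = 3) (hX : 3 ≤ Module.finrank K X)
    (hV : Module.finrank K V = 3) {x y z : V}
    (hspan : ∀ v, ∃ α β γ : K, v = α • x + β • y + γ • z) (hxx : D.m x x = 0) (hy : D.m x y = 0) :
    ∃ t : K, D.m z x = t • D.m y x := by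
  classical
  by_contra hc
  push Not at hc
  have ryx : D.r (D.m y x) x = 0 := by rw [← D.assoc, hxx, map_zero]
  have rzx : D.r (D.m z x) x = 0 := by rw [← D.assoc, hxx, map_zero]
  have hyx0 : D.m y x ≠ 0 := fun h0 => by
    set T := Submodule.span K {D.m x z - D.m z x, D.m y z - D.m z y} with hT
    have hs : T = ⊤ := by
      rw [← Submodule.ker_mkQ T, LinearMap.ker_eq_top]
      refine D.ext_three hspan _ (by simp [hy, h0]) ?_ ?_ <;>
        rw [Submodule.mkQ_apply, Submodule.Quotient.mk_eq_zero] <;>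
        exact Submodule.subset_span (by simp)
    have hle : Module.finrank K T ≤ 2 := by
      have h := finrank_span_finset_le_card (R := K) ({D.m x z - D.m z x, D.m y z - D.m z y} : Finset W)
      rw [Finset.coe_insert, Finset.coe_singleton, Set.finrank] at h
      exact h.trans Finset.card_le_two
    rw [hs, finrank_top, hW] at hle
    omega
  set S := Submodule.span K {D.m y x, D.m z x} with hSdef
  have hSr : Module.finrank K S = 2 := by
    have hS : LinearIndependent K ![D.m y x, D.m z x] := by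
      rw [LinearIndependent.pair_iff' hyx0]
      exact fun t h => hc t h.symm
    rw [hSdef, show ({D.m y x, D.m z x} : Set W) = Set.range ![D.m y x, D.m z x] by simp [Set.pair_comm]]
    rw [finrank_span_eq_card hS, Fintype.card_fin]
  have hS0 : ∀ w ∈ S, D.r w x = 0 := fun w hw => by
    obtain ⟨a, b, rfl⟩ := Submodule.mem_span_pair.mp hw
    simp [ryx, rzx]
  -- the right products with `x` form a line
  obtain ⟨ξ, hξ⟩ : ∃ ξ : X, ∀ w, D.r w x ∈ Submodule.span K {ξ} := by
    by_cases hmem : D.m x z ∈ S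
    · refine ⟨D.r (D.m y z - D.m z y) x, fun w => ?_⟩
      have hq := D.ext_three hspan ((Submodule.mkQ (Submodule.span K {D.r (D.m y z - D.m z y) x})).comp
        (D.r.flip x)) (by simp [hy, ryx]) (by simp [hS0 _ hmem, rzx]) (by
          rw [LinearMap.comp_apply, Submodule.mkQ_apply, Submodule.Quotient.mk_eq_zero]
          exact Submodule.mem_span_singleton_self _)
      have := LinearMap.congr_fun hq w
      simpa [Submodule.Quotient.mk_eq_zero] using this
    · have htop : Submodule.span K {D.m x z} ⊔ S = ⊤ := by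
        refine Submodule.eq_top_of_finrank_eq (le_antisymm (Submodule.finrank_le _) ?_)
        rw [hW]
        have hlt : S < Submodule.span K {D.m x z} ⊔ S := lt_of_le_of_ne le_sup_right fun h =>
          hmem (h ▸ Submodule.mem_sup_left (Submodule.mem_span_singleton_self _))
        have := Submodule.finrank_lt_finrank_of_lt hlt
        omega
      refine ⟨D.r (D.m x z) x, fun w => ?_⟩
      obtain ⟨w₁, hw₁, w₂, hw₂, rfl⟩ := Submodule.mem_sup.mp
        (htop ▸ Submodule.mem_top : w ∈ Submodule.span K {D.m x z} ⊔ S)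
      obtain ⟨c, rfl⟩ := Submodule.mem_span_singleton.mp hw₁
      exact Submodule.mem_span_singleton.mpr ⟨c, by simp [hS0 _ hw₂]⟩
  obtain ⟨lam, hlam, hlam0⟩ := Submodule.exists_mem_ne_zero_of_ne_bot
    (p := S.dualAnnihilator) (fun h => by
      have := Subspace.finrank_add_finrank_dualAnnihilator_eq S
      rw [h, finrank_bot] at this
      omega)
  have hSann : S.dualAnnihilator = Submodule.span K {lam} := by
    refine (Submodule.eq_of_le_of_finrank_le ((Submodule.span_singleton_le_iff_mem _ _).mpr hlam) ?_).symm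
    rw [finrank_span_singleton hlam0]
    have := Subspace.finrank_add_finrank_dualAnnihilator_eq S
    omega
  obtain ⟨w₀, hw₀⟩ : ∃ w, lam w ≠ 0 := by
    by_contra hc'
    push Not at hc'
    exact hlam0 (LinearMap.ext hc')
  -- two functionals killing those products
  set Ann := (Submodule.span K {ξ}).dualAnnihilator with hAdef
  have hAnn : 2 ≤ Module.finrank K Ann := by
    have := Subspace.finrank_add_finrank_dualAnnihilator_eq (Submodule.span K {ξ})
    rw [← hAdef] at this
    have h : Module.finrank K (Submodule.span K {ξ}) ≤ 1 := by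
      by_cases h0 : ξ = 0
      · rw [h0, Submodule.span_zero_singleton, finrank_bot]; omega
      · rw [finrank_span_singleton h0]
    omega
  let g : Module.Dual K X → Module.Dual K V := fun ψ => (lam w₀)⁻¹ • ψ.comp (D.l.flip w₀)
  have hΦ : ∀ ψ ∈ Ann, ∀ b w, ψ (D.l b w) = g ψ b * lam w := fun ψ hψ b w => by
    have hmem : ψ.comp (D.l b) ∈ S.dualAnnihilator := by
      rw [Submodule.mem_dualAnnihilator]
      intro s hs
      obtain ⟨c, c', rfl⟩ := Submodule.mem_span_pair.mp hs
      have hz0 : ∀ v, ψ (D.l b (D.m v x)) = 0 := fun v => by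
        rw [D.assoc]
        exact (Submodule.mem_dualAnnihilator _).mp hψ _ (hξ _)
      simp [hz0]
    rw [hSann] at hmem
    obtain ⟨c, hc'⟩ := Submodule.mem_span_singleton.mp hmem
    have e := LinearMap.congr_fun hc' w
    have e₀ := LinearMap.congr_fun hc' w₀
    simp only [LinearMap.smul_apply, smul_eq_mul, LinearMap.comp_apply] at e e₀
    simp only [g, LinearMap.smul_apply, LinearMap.comp_apply, LinearMap.flip_apply, smul_eq_mul,
      ← e, ← e₀]
    field_simp
  have hkey : ∀ ψ ∈ Ann, ∀ c b v, ψ (D.r (D.m b v) c) = g ψ b * lam (D.m v c) := fun ψ hψ c b v => by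
    rw [← hΦ ψ hψ, D.assoc]
  have hg0 : ∀ ψ ∈ Ann, g ψ = 0 → ψ = 0 := fun ψ hψ h => by
    by_contra hne
    obtain ⟨b, v, c, h'⟩ := D.top_ne (f := ψ) hne
    rw [hkey ψ hψ, h, LinearMap.zero_apply, zero_mul] at h'
    exact h' rfl
  obtain ⟨ψ₁, hψ₁, hψ₁0⟩ := Submodule.exists_mem_ne_zero_of_ne_bot
    (p := Ann) (fun h => by rw [h, finrank_bot] at hAnn; omega)
  obtain ⟨ψ₂, hψ₂, hψ₂'⟩ : ∃ ψ ∈ Ann, ψ ∉ Submodule.span K {ψ₁} := by
    by_contra hc'
    push Not at hc'
    have := Submodule.finrank_mono (s := Ann) hc'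
    rw [finrank_span_singleton hψ₁0] at this
    omega
  have hgli : ∀ s t : K, (∀ b, s * g ψ₁ b + t * g ψ₂ b = 0) → s = 0 ∧ t = 0 := fun s t h => by
    refine LinearIndependent.pair_iff.mp ((LinearIndependent.pair_iff' hψ₁0).mpr fun t h' =>
      hψ₂' (Submodule.mem_span_singleton.mpr ⟨t, h'⟩)) s t (hg0 _ ?_ ?_)
    · exact add_mem (Submodule.smul_mem _ _ hψ₁) (Submodule.smul_mem _ _ hψ₂)
    · refine LinearMap.ext fun b => ?_
      rw [LinearMap.zero_apply, ← h b]
      simp only [g, LinearMap.smul_apply, LinearMap.comp_apply, LinearMap.add_apply, smul_eq_mul]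
      ring
  -- `lam` is a product
  set Lm : V →ₗ[K] Module.Dual K V := (D.m.compr₂ lam).flip with hLm
  have hLme : ∀ c v, Lm c v = lam (D.m v c) := fun c v => rfl
  obtain ⟨c₁, hc₁⟩ : ∃ c₁, Lm c₁ ≠ 0 := by
    by_contra hc'
    push Not at hc'
    exact hlam0 (D.eq_zero_of_symm fun a b => by
      rw [← hLme, ← hLme, hc', hc']; rfl)
  have hLm1 : ∀ c, Lm c ∈ Submodule.span K {Lm c₁} := by
    intro c₂
    by_contra hf₂'
    let Θ : (K × K) × (K × K) →ₗ[K] Module.Dual K W :=
      LinearMap.coprod
        (LinearMap.coprod (LinearMap.toSpanSingleton K _ (ψ₁.comp (D.r.flip c₁)))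
          (LinearMap.toSpanSingleton K _ (ψ₁.comp (D.r.flip c₂))))
        (LinearMap.coprod (LinearMap.toSpanSingleton K _ (ψ₂.comp (D.r.flip c₁)))
          (LinearMap.toSpanSingleton K _ (ψ₂.comp (D.r.flip c₂))))
    have hinj : Function.Injective Θ := (injective_iff_map_eq_zero _).mpr fun q hq => by
      obtain ⟨⟨a, b⟩, ⟨a', b'⟩⟩ := q
      have h0 : ∀ v, (a * Lm c₁ v + b * Lm c₂ v) = 0 ∧ (a' * Lm c₁ v + b' * Lm c₂ v) = 0 := fun v => by
        refine hgli _ _ fun i => ?_
        have h := LinearMap.congr_fun hq (D.m i v)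
        simp only [Θ, LinearMap.coprod_apply, LinearMap.toSpanSingleton_apply, LinearMap.add_apply,
          LinearMap.smul_apply, LinearMap.comp_apply, LinearMap.flip_apply, smul_eq_mul,
          hkey ψ₁ hψ₁, hkey ψ₂ hψ₂, LinearMap.zero_apply] at h
        rw [← h, hLme, hLme]
        ring
      have hind := LinearIndependent.pair_iff.mp
        ((LinearIndependent.pair_iff' hc₁).mpr fun t h =>
          hf₂' (Submodule.mem_span_singleton.mpr ⟨t, h⟩))
      obtain ⟨ha, hb⟩ := hind a b (LinearMap.ext fun v => by simpa using (h0 v).1)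
      obtain ⟨ha', hb'⟩ := hind a' b' (LinearMap.ext fun v => by simpa using (h0 v).2)
      simp [ha, hb, ha', hb']
    have := LinearMap.finrank_le_finrank_of_injective hinj
    rw [Subspace.dual_finrank_eq, hW] at this
    simp [Module.finrank_prod] at this
  choose ρ hρ using fun c => Submodule.mem_span_singleton.mp (hLm1 c)
  set F := Lm c₁ with hFdef
  have hlamF : ∀ v c, lam (D.m v c) = ρ c * F v := fun v c => by
    rw [← hLme, ← hρ]; rfl
  obtain ⟨c₂, hc₂⟩ : ∃ v, F v ≠ 0 := by
    by_contra hc'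
    push Not at hc'
    exact hc₁ (LinearMap.ext hc')
  -- `F` is not one of the left factors
  have hFG : ∀ ψ ∈ Ann, ∀ s : K, s ≠ 0 → ¬ ∀ b, g ψ b = s * F b := fun ψ hψ s hs h => by
    have e : ∀ a b, (ψ.comp (D.r.flip c₁)) (D.m a b) = s * (F a * F b) := fun a b => by
      show ψ (D.r (D.m a b) c₁) = _
      rw [hkey ψ hψ, h, ← hLme, ← hFdef]; ring
    have h0 := D.eq_zero_of_symm (k := ψ.comp (D.r.flip c₁)) fun a b => by rw [e, e]; ring
    have h1 := e c₂ c₂
    rw [h0, LinearMap.zero_apply] at h1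
    exact mul_ne_zero hs (mul_ne_zero hc₂ hc₂) h1.symm
  -- the three forms are a basis
  have hli : LinearIndependent K ![g ψ₁, g ψ₂, F] := by
    rw [Fintype.linearIndependent_iff]
    intro a ha
    simp only [Fin.sum_univ_three, Matrix.cons_val_zero, Matrix.cons_val_one, Matrix.cons_val] at ha
    have he : ∀ b, g (a 0 • ψ₁ + a 1 • ψ₂) b = -a 2 * F b := fun b => by
      have h := LinearMap.congr_fun ha b
      simp only [g, LinearMap.smul_apply, LinearMap.comp_apply, LinearMap.add_apply, smul_eq_mul,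
        LinearMap.zero_apply] at h ⊢
      linear_combination h
    have h2 : a 2 = 0 := by
      by_contra h2
      exact hFG _ (add_mem (Submodule.smul_mem _ _ hψ₁) (Submodule.smul_mem _ _ hψ₂)) _
        (neg_ne_zero.mpr h2) he
    obtain ⟨h0, h1⟩ := hgli (a 0) (a 1) fun b => by
      have h := LinearMap.congr_fun ha b
      rw [h2] at h
      simpa using h
    intro i
    fin_cases i
    · exact h0
    · exact h1
    · exact h2
  have htop := hli.span_eq_top_of_card_eq_finrank (by rw [Subspace.dual_finrank_eq, hV]; rfl)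
  set ρ' : Module.Dual K V := (F c₂)⁻¹ • lam.comp (D.m c₂) with hρ'
  have hρ'e : ∀ c, ρ' c = ρ c := fun c => by
    simp only [hρ', LinearMap.smul_apply, LinearMap.comp_apply, hlamF, smul_eq_mul]
    field_simp
  obtain ⟨co, hco⟩ := (Submodule.mem_span_range_iff_exists_fun K).mp
    (htop ▸ Submodule.mem_top : ρ' ∈ Submodule.span K (Set.range ![g ψ₁, g ψ₂, F]))
  set ψ := co 0 • ψ₁ + co 1 • ψ₂ with hψdef
  have hψ : ψ ∈ Ann := add_mem (Submodule.smul_mem _ _ hψ₁) (Submodule.smul_mem _ _ hψ₂)
  have hρg : ∀ c, ρ c = g ψ c + co 2 * F c := fun c => by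
    rw [← hρ'e, ← hco]
    simp [hψdef, g, Fin.sum_univ_three]
    ring
  have hsym : ∀ b v, (ψ.comp (D.r.flip c₁) + lam) (D.m b v) =
      g ψ b * F v + F b * g ψ v + co 2 * (F b * F v) := fun b v => by
    rw [LinearMap.add_apply, hlamF b v, hρg, LinearMap.comp_apply, LinearMap.flip_apply,
      hkey ψ hψ, ← hLme, ← hFdef]
    ring
  have hzero := D.eq_zero_of_symm (k := ψ.comp (D.r.flip c₁) + lam)
    fun a b => by rw [hsym, hsym]; ring
  have hs0 : ∀ b v, g ψ b * F v + F b * g ψ v + co 2 * (F b * F v) = 0 := fun b v => by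
    rw [← hsym, hzero]; rfl
  have hgF : ∀ b, g ψ b = (-(F b) * (g ψ c₂ + co 2 * F c₂)) / F c₂ := fun b => by
    rw [eq_div_iff hc₂]
    linear_combination hs0 b c₂
  set s := -(g ψ c₂ + co 2 * F c₂) / F c₂ with hsdef
  have hgs : ∀ b, g ψ b = s * F b := fun b => by rw [hgF, hsdef]; ring
  by_cases hs : s = 0
  · refine hlam0 (D.eq_zero_of_symm fun a b => ?_)
    rw [hlamF, hlamF, hρg, hρg, hgs, hgs, hs]
    ring
  · exact hFG ψ hψ s hs hgs

end CfsgLib.Blocks.RankOneFive.Layers
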