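import Cfsg.Agent.Lib.Blocks.MajorContribution
import Cfsg.Agent.Lib.Blocks.StarAction
import Cfsg.Agent.Lib.Blocks.FreeQuotient.Free

/-!
# The weight of a character of height one on the major sections

In a `2`-block of defect three with five characters, four of them of height zero, the part of the
character of height one in a block of full defect at a section carries half of the weight of the
centralizer.  So a conjugacy class with such blocks carries half the order of the group for each.
-/

set_option autoImplicit false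
set_option linter.unusedSectionVars false
set_option linter.style.haveILetI false

namespace CfsgLib.Blocks.RankOneFive

open Cfsg CfsgLib.Blocks.FreeQuot
open scoped ComplexConjugate CfsgLib.Char

variable {p : ℕ} {M : Ideal AlgInt} {G : Type*} [Group G] [Fintype G]

variable (p) in
/-- The shape of the block. -/
structure Shape (M : Ideal AlgInt) (B : Set (IrrCharacter G)) (χ₁ : IrrCharacter G) : Prop where
  modular : IsPModular p M
  block : IsPBlock M B
  two : p = 2
  defect : blockDefect p B = 3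
  card : Nat.card B = 5
  mem : χ₁ ∈ B
  height : blockHeight p B (χ₁ : G → ℂ) = 1
  others : ∀ χ ∈ B, χ ≠ χ₁ → blockHeight p B (χ : G → ℂ) = 0

variable {B : Set (IrrCharacter G)} {χ₁ : IrrCharacter G}

theorem regScalar_eq_half (h : Shape p M B χ₁) {x : G}
    [Fintype (Subgroup.centralizer ({x} : Set G))] (hx : ∃ k : ℕ, orderOf x = p ^ k)
    {b : Set (IrrCharacter (Subgroup.centralizer ({x} : Set G)))}
    (hb : IsInducedBlock M (Subgroup.centralizer ({x} : Set G)) b B) (hbd : blockDefect p b = 3) :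
    2 * regScalar p x b (χ₁ : G → ℂ) (χ₁ : G → ℂ) =
      (Nat.card (Subgroup.centralizer ({x} : Set G)) : ℂ) := by
  classical
  have hM := h.modular
  have hd : blockDefect p b = blockDefect p B := hbd.trans h.defect.symm
  obtain ⟨F, hF⟩ := exists_system hM hx h.block hb
  haveI : Fintype (Subgroup.zpowers x) := Fintype.ofFinite _
  set S : Finset (Subgroup.zpowers x) :=
    Finset.univ.filter fun v => Subgroup.zpowers v = Subgroup.zpowers (zpow₀ x) with hSdef
  have hS : ∀ v, v ∈ S ↔ Subgroup.zpowers v = Subgroup.zpowers (zpow₀ x) := fun v => by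
    simp [hSdef]
  set s : Finset (IrrCharacter G) := Finset.univ.filter fun χ => χ ∈ B with hs
  have hmem : χ₁ ∈ s := by simp [hs, h.mem]
  have hcard : (s.erase χ₁).card = 4 := by
    rw [Finset.card_erase_of_mem hmem, hs, ← Fintype.card_subtype, ← Nat.card_eq_fintype_card,
      show Nat.card {χ : IrrCharacter G // χ ∈ B} = 5 from h.card]
  have hlow : ∀ χ ∈ s.erase χ₁,
      4 * (S.card : ℝ) ≤ ∑ v ∈ S, Complex.normSq (F χ χ₁ v) := fun χ hχ => by
    obtain ⟨hne, hχs⟩ := Finset.mem_erase.mp hχ
    have hχB : χ ∈ B := by simpa [hs] using hχs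
    have h' := hF.pow_mul_card_le_normSq hM hx h.block hb hd S hS h.mem hχB (h.others χ hχB hne)
    rw [h.height, pow_one] at h'
    refine le_trans (le_of_eq ?_) (h'.trans (le_of_eq (Finset.sum_congr rfl fun v hv => ?_)))
    · rw [h.two]; norm_num
    · rw [← hF.symm χ₁ χ v ((hS v).mp hv), Complex.normSq_conj]
  set f : Subgroup.zpowers x → ℝ := fun v => (F χ₁ χ₁ v).re with hf
  have hsq : ∀ v, Complex.normSq (F χ₁ χ₁ v) = f v * f v := fun v => by
    rw [Complex.normSq_apply, hF.im_eq_zero χ₁ v]; simp [hf]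
  have hrow : ∀ v ∈ S, f v * f v + ∑ χ ∈ s.erase χ₁, Complex.normSq (F χ χ₁ v) = 8 * f v :=
    fun v hv => by
    rw [← hsq, Finset.add_sum_erase s (fun χ => Complex.normSq (F χ χ₁ v)) hmem, hs,
      hF.row χ₁ v ((hS v).mp hv), hbd, h.two, hf]
    norm_num
  have hsum : ∑ v ∈ S, (f v - 4) ^ 2 ≤ 0 := by
    have h1 : ∑ v ∈ S, (f v * f v + ∑ χ ∈ s.erase χ₁, Complex.normSq (F χ χ₁ v)) =
        ∑ v ∈ S, 8 * f v := Finset.sum_congr rfl hrow
    rw [Finset.sum_add_distrib, Finset.sum_comm (s := S) (t := s.erase χ₁)] at h1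
    have h2 := Finset.sum_le_sum hlow
    rw [Finset.sum_const, hcard, nsmul_eq_mul] at h2
    have h3 : ∑ v ∈ S, (f v - 4) ^ 2 =
        ∑ v ∈ S, f v * f v - ∑ v ∈ S, 8 * f v + (S.card : ℝ) * 16 := by
      rw [← Finset.sum_sub_distrib, ← nsmul_eq_mul, ← Finset.sum_const, ← Finset.sum_add_distrib]
      exact Finset.sum_congr rfl fun v _ => by ring
    push_cast at h2
    linarith
  have h4 : f (zpow₀ x) = 4 := by
    have := (Finset.sum_eq_zero_iff_of_nonneg fun v _ => sq_nonneg (f v - 4)).mp
      (le_antisymm hsum (Finset.sum_nonneg fun v _ => sq_nonneg _)) (zpow₀ x) ((hS _).mpr rfl)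
    exact sub_eq_zero.mp (sq_eq_zero_iff.mp this)
  have hF4 : F χ₁ χ₁ (zpow₀ x) = 4 := Complex.ext (by simpa [hf] using h4)
    (by simpa using hF.im_eq_zero χ₁ (zpow₀ x))
  have hv := hF.value χ₁ χ₁
  rw [hF4, hbd, show (p : ℂ) = 2 by rw [h.two]; norm_num] at hv
  linear_combination (-(1 : ℂ) / 4) * hv

variable (p) in
/-- The weight of `χ` on the section of `v`, twice. -/
noncomputable def weight (χ : G → ℂ) (v : G) (K : Subgroup G) [Fintype K] : ℝ :=
  open Classical in 2 * ∑ s : K with IsPRegular p s, Complex.normSq (χ (v * (s : G)))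

open Classical in
/-- Each block of full defect at the section of `v` gives the order of the centralizer. -/
theorem card_mul_le_weight (h : Shape p M B χ₁) {v : G} (hv : ∃ k : ℕ, orderOf v = p ^ k) :
    ∀ (K : Subgroup G) [Fintype K] (_ : K = Subgroup.centralizer ({v} : Set G))
      (T : Finset (Set (IrrCharacter K))),
      (∀ b ∈ T, IsInducedBlock M K b B ∧ blockDefect p b = 3) →
      (T.card : ℝ) * Nat.card K ≤ weight p (χ₁ : G → ℂ) v K := by
  intro K _ hK T hT
  subst hK
  have := isPrime_of_isPModular h.modular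
  set θ := fun c : Subgroup.centralizer ({v} : Set G) => (χ₁ : G → ℂ) (v * (c : G)) with hθ
  set N := fun b : Set (IrrCharacter (Subgroup.centralizer ({v} : Set G))) =>
    ∑ s : Subgroup.centralizer ({v} : Set G) with IsPRegular p s, Complex.normSq (blockPart b θ s)
    with hN
  have hsum : ∑ s : Subgroup.centralizer ({v} : Set G) with IsPRegular p s,
      Complex.normSq (θ s) = ∑ b ∈ blocks M _, N b := by
    have h' := sum_regular_normSq_eq_sum_blocks h.modular
      (θ := θ) (isClassFunction_translate (irr_classFunction χ₁))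
    simp only [Complex.mul_conj] at h'
    have h'' := congrArg Complex.re h'
    simpa only [Complex.re_sum, Complex.ofReal_re] using h''
  have hval : ∀ b ∈ T, 2 * N b = Nat.card (Subgroup.centralizer ({v} : Set G)) := fun b hb => by
    have h' := congrArg Complex.re (regScalar_eq_half h hv (hT b hb).1 (hT b hb).2)
    simp only [regScalar, Complex.mul_conj, Complex.natCast_re, Complex.mul_re, Complex.re_sum,
      Complex.ofReal_re, Complex.im_sum, Complex.ofReal_im, Finset.sum_const_zero, mul_zero,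
      sub_zero, Complex.re_ofNat] at h'
    exact h'
  refine le_trans (le_of_eq ?_) (mul_le_mul_of_nonneg_left
    ((Finset.sum_le_sum_of_subset_of_nonneg (fun b hb => mem_blocks.mpr (hT b hb).1.1)
      fun b _ _ => Finset.sum_nonneg fun s _ => Complex.normSq_nonneg _).trans hsum.ge) zero_le_two)
  rw [Finset.mul_sum, Finset.sum_congr rfl hval, Finset.sum_const, nsmul_eq_mul]

theorem isPElem_conj {u : G} (hu : ∃ k : ℕ, orderOf u = p ^ k) (g : G) :
    ∃ k : ℕ, orderOf (g * u * g⁻¹) = p ^ k := by
  obtain ⟨k, hk⟩ := hu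
  exact ⟨k, (orderOf_injective (MulAut.conj g).toMonoidHom (MulAut.conj g).injective u).trans hk⟩

open Classical in
/-- A conjugacy class carries the order of the group for each of its blocks of full defect. -/
theorem card_mul_le_class (h : Shape p M B χ₁) [∀ z : G, Fintype (cz z)] {u : G}
    (hu : ∃ k : ℕ, orderOf u = p ^ k)
    (T : Finset (Set (IrrCharacter (cz u))))
    (hT : ∀ b ∈ T, IsInducedBlock M (cz u) b B ∧ blockDefect p b = 3) :
    (T.card : ℝ) * Nat.card G ≤
      ∑ z ∈ Finset.univ.image (fun g => g * u * g⁻¹), weight p (χ₁ : G → ℂ) z (cz z) := by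
  have hM := h.modular
  have := isPrime_of_isPModular hM
  have hfib : ∀ g₀ : G, (Finset.univ.filter fun g : G => g * u * g⁻¹ = g₀ * u * g₀⁻¹).card =
      Nat.card (cz u) := fun g₀ => by
    rw [← Fintype.card_subtype, ← Nat.card_eq_fintype_card]
    refine Nat.card_congr (Equiv.subtypeEquiv (Equiv.mulLeft g₀⁻¹) fun g => ?_)
    show g * u * g⁻¹ = g₀ * u * g₀⁻¹ ↔ g₀⁻¹ * g ∈ cz u
    rw [cz_eq, Subgroup.mem_centralizer_singleton_iff, mul_inv_eq_iff_eq_mul]
    constructor
    · intro e; rw [mul_assoc, e]; group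
    · intro e
      calc g * u = g₀ * (g₀⁻¹ * g * u) := by group
        _ = _ := by rw [e]; group
  have hlow : ∀ g : G, (T.card : ℝ) * Nat.card (cz u) ≤
      weight p (χ₁ : G → ℂ) (g * u * g⁻¹) (cz (g * u * g⁻¹)) := fun g => by
    have hiff := cz_conj_iff g u
    have hz := isPElem_conj hu g
    refine le_trans (le_of_eq ?_) (card_mul_le_weight h hz (cz (g * u * g⁻¹)) (cz_eq _)
      (T.image (conjSet g (cz u) (cz (g * u * g⁻¹)))) fun b' hb' => ?_)
    · rw [Finset.card_image_of_injective, Nat.card_congr (conjIso hiff).toEquiv]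
      intro a a' e
      rw [conjSet_eq_image hiff, conjSet_eq_image hiff] at e
      exact Set.image_injective.mpr (conjIrr_injective hiff) e
    · obtain ⟨b, hb, rfl⟩ := Finset.mem_image.mp hb'
      refine ⟨?_, (blockDefect_conjSet hiff b).trans (hT b hb).2⟩
      have hp := isBrauerPairOf_conjPair g (a := ⟨Subgroup.zpowers u, b⟩)
        ((isBrauerPairOf_iff_induced hM hu (hT b hb).1.1).mpr (hT b hb).1)
      rw [conjPair_zpowers rfl] at hp
      exact (isBrauerPairOf_iff_induced hM hz hp.1.2).mp hp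
  have hc : (0 : ℝ) < Nat.card (cz u) := Nat.cast_pos.mpr Nat.card_pos
  refine le_of_mul_le_mul_left ?_ hc
  calc (Nat.card (cz u) : ℝ) * ((T.card : ℝ) * Nat.card G)
      = ∑ _g : G, (T.card : ℝ) * Nat.card (cz u) := by
        rw [Finset.sum_const, Finset.card_univ, nsmul_eq_mul, Nat.card_eq_fintype_card (α := G)]
        ring
    _ ≤ ∑ g : G, weight p (χ₁ : G → ℂ) (g * u * g⁻¹) (cz (g * u * g⁻¹)) :=
        Finset.sum_le_sum fun g _ => hlow g
    _ = _ := by
        rw [Finset.sum_comp (fun z => weight p (χ₁ : G → ℂ) z (cz z)) (fun g => g * u * g⁻¹),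
          Finset.mul_sum]
        refine Finset.sum_congr rfl fun z hz => ?_
        obtain ⟨g₀, -, rfl⟩ := Finset.mem_image.mp hz
        rw [nsmul_eq_mul, hfib g₀]

open Classical in
/-- Classes avoiding the identity carry less than twice the order of the group. -/
theorem sum_weight_lt (h : Shape p M B χ₁) [∀ z : G, Fintype (cz z)] (U : Finset G)
    (hU : ∀ z ∈ U, (∃ k : ℕ, orderOf z = p ^ k) ∧ z ≠ 1) :
    ∑ z ∈ U, weight p (χ₁ : G → ℂ) z (cz z) < 2 * Nat.card G := by
  have hp := h.modular.1
  have htot : ∑ v : G with ∃ k : ℕ, orderOf v = p ^ k, weight p (χ₁ : G → ℂ) v (cz v) =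
      2 * Nat.card G := by
    have h1 := sum_sections hp fun g => (χ₁ : G → ℂ) g * conj ((χ₁ : G → ℂ) g)
    have h2 := Char.classInner_irr_self χ₁.2
    rw [classInner, inv_mul_eq_iff_eq_mul₀ (Nat.cast_ne_zero.mpr Nat.card_pos.ne'), mul_one, h1] at h2
    simp only [Complex.mul_conj] at h2
    have h3 := congrArg Complex.re h2
    simp only [Complex.re_sum, Complex.ofReal_re, Complex.natCast_re] at h3
    simp only [weight, ← Finset.mul_sum]
    convert congrArg (fun r : ℝ => 2 * r) h3
  rw [← htot]
  have hone : ∃ k : ℕ, orderOf (1 : G) = p ^ k := ⟨0, by simp⟩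
  refine Finset.sum_lt_sum_of_subset (i := (1 : G))
    (fun z hz => Finset.mem_filter.mpr ⟨Finset.mem_univ z, (hU z hz).1⟩)
    (Finset.mem_filter.mpr ⟨Finset.mem_univ _, hone⟩) (fun h1 => (hU 1 h1).2 rfl) ?_
    fun v _ _ => mul_nonneg zero_le_two (Finset.sum_nonneg fun s _ => Complex.normSq_nonneg _)
  refine mul_pos two_pos (Finset.sum_pos' (fun s _ => Complex.normSq_nonneg _)
    ⟨1, Finset.mem_filter.mpr ⟨Finset.mem_univ _, ?_⟩, Complex.normSq_pos.mpr ?_⟩)
  · rw [IsPRegular, orderOf_one, Nat.dvd_one]; exact hp.ne_one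
  · rw [Subgroup.coe_one, mul_one]; exact Char.irr_degree_ne_zero χ₁.2

end CfsgLib.Blocks.RankOneFive
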